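import Cfsg.Agent.Lib.Marggraf.Primitive

/-!
Marggraf's theorem: the alternating group, and the passage from quasiprimitive to primitive.
-/

set_option autoImplicit false

namespace Cfsg.Agent.Lib.Marggraf

open Pointwise

universe u v

/-- A primitive group with a Jordan set of size less than half the degree moves only two or three
points by some element. -/
theorem exists_small_movedSet : ∀ (n : ℕ) (G : Type u) (Ω : Type v) [Group G] [MulAction G Ω]
    [Finite Ω] (Γ : Set Ω), Nat.card Ω = n → IsJordanSet G Γ → MulAction.IsPreprimitive G Ω →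
    1 < Γ.ncard → 2 * Γ.ncard < n →
    ∃ c : G, 0 < (movedSet (Ω := Ω) c).ncard ∧ (movedSet (Ω := Ω) c).ncard ≤ 3 := by
  intro n
  induction n using Nat.strong_induction_on with
  | _ n ih =>
    intro G Ω _ _ _ Γ hn hJ hp h1 h2
    classical
    have h3 := three_pretransitive hJ hp h1 (by omega)
    have htr : MulAction.IsPretransitive G Ω := hp.toIsPretransitive
    obtain ⟨a, ha⟩ : Γᶜ.Nonempty := Set.nonempty_of_ncard_ne_zero (by rw [Set.ncard_compl]; omega)
    set X := SubMulAction.ofStabilizer G a with hX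
    have hmemX : ∀ z, z ∈ X ↔ z ≠ a := fun z => Iff.rfl
    have hX2 : MulAction.IsMultiplyPretransitive (MulAction.stabilizer G a) X 2 :=
      SubMulAction.ofStabilizer.isMultiplyPretransitive.1 h3
    have hXp := MulAction.isPreprimitive_of_is_two_pretransitive hX2
    set Γ' : Set X := Subtype.val ⁻¹' Γ with hΓ'
    have hJ' : IsJordanSet (MulAction.stabilizer G a) Γ' := by
      intro x hx y hy
      obtain ⟨g, hg, hgx⟩ := hJ x hx y hy
      exact ⟨⟨g, hg a ha⟩, fun z hz => Subtype.ext (hg z hz), Subtype.ext hgx⟩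
    have hc' : Γ'.ncard = Γ.ncard := by
      rw [hΓ', Set.ncard_preimage_of_injective_subset_range Subtype.val_injective]
      intro z hz
      exact ⟨⟨z, (hmemX z).2 fun h => ha (h ▸ hz)⟩, rfl⟩
    have hcX : Nat.card X = n - 1 := by
      have h : (Subtype.val '' (Set.univ : Set X)) = {a}ᶜ := by
        ext z
        simp only [Set.image_univ, Subtype.range_coe_subtype, Set.mem_ofPred_eq, Set.mem_compl_iff,
          Set.mem_singleton_iff]
        exact hmemX z
      have hc := Set.ncard_image_of_injective (Set.univ : Set X) Subtype.val_injective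
      rw [h, Set.ncard_univ, Set.ncard_compl, Set.ncard_singleton, hn] at hc
      omega
    by_cases hlt : 2 * Γ.ncard < n - 1
    · obtain ⟨c, hc0, hc3⟩ := ih (n - 1) (by omega) (MulAction.stabilizer G a) X Γ' hcX hJ' hXp
        (by omega) (by omega)
      have hmoved : movedSet (Ω := Ω) (c : G) = Subtype.val '' movedSet (Ω := X) c := by
        ext z
        constructor
        · intro hz
          have hza : z ≠ a := fun h => hz (h ▸ c.2)
          exact ⟨⟨z, (hmemX z).2 hza⟩, fun h => hz (congrArg Subtype.val h), rfl⟩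
        · rintro ⟨w, hw, rfl⟩ h
          exact hw (Subtype.ext h)
      refine ⟨c, ?_, ?_⟩ <;>
        rwa [hmoved, Set.ncard_image_of_injective _ Subtype.val_injective]
    · have hX3 := three_pretransitive hJ' hXp (by omega) (by omega)
      have h4 : MulAction.IsMultiplyPretransitive G Ω 4 :=
        SubMulAction.ofStabilizer.isMultiplyPretransitive.2 hX3
      set H := (MulAction.toPermHom G Ω).range with hH
      have hJH : IsJordanSet H Γ := by
        intro x hx y hy
        obtain ⟨g, hg, hgx⟩ := hJ x hx y hy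
        exact ⟨⟨_, g, rfl⟩, fun z hz => hg z hz, hgx⟩
      have hH4 : MulAction.IsMultiplyPretransitive H Ω 4 := ⟨fun x y => by
        obtain ⟨g, hg⟩ := h4.exists_smul_eq x y
        refine ⟨⟨_, g, rfl⟩, Function.Embedding.ext fun i => ?_⟩
        exact DFunLike.congr_fun hg i⟩
      obtain ⟨⟨_, g, rfl⟩, hc0, hc3⟩ := exists_movedSet_le_three hJH (by omega) hH4 h1
      exact ⟨g, hc0, hc3⟩

/-- Marggraf: a primitive group with a Jordan set of size less than half the degree contains the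
alternating group. -/
theorem alternatingGroup_le_range {G : Type u} {Ω : Type v} [Group G] [MulAction G Ω] [Fintype Ω]
    [DecidableEq Ω] {Γ : Set Ω} (hJ : IsJordanSet G Γ) (hp : MulAction.IsPreprimitive G Ω)
    (h1 : 1 < Γ.ncard) (h2 : 2 * Γ.ncard < Nat.card Ω) :
    alternatingGroup Ω ≤ (MulAction.toPermHom G Ω).range := by
  set H := (MulAction.toPermHom G Ω).range with hH
  let φ : G → H := fun g => ⟨MulAction.toPermHom G Ω g, g, rfl⟩
  let f : Ω →ₑ[φ] Ω := { toFun := id, map_smul' := fun g z => rfl }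
  have hHp : MulAction.IsPreprimitive H Ω := MulAction.IsPreprimitive.of_surjective (f := f) Function.surjective_id
  obtain ⟨c, hc0, hc3⟩ := exists_small_movedSet (Nat.card Ω) G Ω Γ rfl hJ hp h1 h2
  set σ := MulAction.toPermHom G Ω c with hσ
  have hmem : σ ∈ H := ⟨c, rfl⟩
  have hsupp : σ.support.card = (movedSet (Ω := Ω) c).ncard := by
    rw [← Set.ncard_coe_finset]
    congr 1
    ext z
    simp only [Finset.mem_coe, Equiv.Perm.mem_support, movedSet, Set.mem_ofPred_eq, hσ]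
    rfl
  have : σ.support.card = 2 ∨ σ.support.card = 3 := by
    have := Equiv.Perm.card_support_ne_one σ
    omega
  rcases this with h | h
  · rw [Equiv.Perm.subgroup_eq_top_of_isPreprimitive_of_isSwap_mem hHp σ
      (Equiv.Perm.card_support_eq_two.1 h) hmem]
    exact le_top
  · exact Equiv.Perm.alternatingGroup_le_of_isPreprimitive_of_isThreeCycle_mem hHp
      (card_support_eq_three_iff.1 h) hmem

/-- A quasiprimitive group with a Jordan set of size less than half the degree is primitive. -/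
theorem preprimitive_of_quasiprimitive : ∀ (n : ℕ) (G : Type u) (Ω : Type v) [Group G]
    [MulAction G Ω] [FaithfulSMul G Ω] [Finite Ω] (Γ : Set Ω), Nat.card Ω = n →
    (∀ N : Subgroup G, N.Normal → N ≠ ⊥ → MulAction.IsPretransitive ↥N Ω) → IsJordanSet G Γ →
    1 < Γ.ncard → 2 * Γ.ncard < n → MulAction.IsPreprimitive G Ω := by
  intro n
  induction n using Nat.strong_induction_on with
  | _ n ih =>
  intro G Ω _ _ _ _ Γ hn hqp hJ h1 h2
  classical
  obtain ⟨a, ha, a', ha', haa'⟩ := (Set.one_lt_ncard (Set.toFinite Γ)).1 h1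
  obtain ⟨h₀, hh₀, hh₀a⟩ := hJ a ha a' ha'
  have hne : h₀ ≠ 1 := fun h => haa' (by rw [← hh₀a, h, one_smul])
  have htop : (⊤ : Subgroup G) ≠ ⊥ := fun h => hne (by
    have := Subgroup.mem_top h₀; rwa [h, Subgroup.mem_bot] at this)
  haveI htr : MulAction.IsPretransitive G Ω := ⟨fun u v => by
    obtain ⟨g, hg⟩ := (hqp ⊤ inferInstance htop).exists_smul_eq u v
    exact ⟨g, hg⟩⟩
  refine MulAction.IsPreprimitive.of_isTrivialBlock_base a fun {B} haB hB => ?_
  by_contra hnt
  simp only [MulAction.IsTrivialBlock, not_or] at hnt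
  -- the kernel on the blocks
  let K : Subgroup G := ⨅ g : G, MulAction.stabilizer G (g • B)
  have hKmem : ∀ k, k ∈ K ↔ ∀ g : G, k • (g • B) = g • B := fun k => by
    simp only [K, Subgroup.mem_iInf, MulAction.mem_stabilizer_iff]
  have hKn : K.Normal := ⟨fun k hk g => by
    rw [hKmem] at hk ⊢
    intro g'
    rw [mul_smul, mul_smul, smul_smul g⁻¹ g' B, hk (g⁻¹ * g'), smul_smul, mul_inv_cancel_left]⟩
  have hK : K = ⊥ := by
    by_contra hK
    have hKt := hqp K hKn hK
    obtain ⟨z, hz⟩ := (Set.ne_univ_iff_exists_notMem B).1 hnt.2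
    obtain ⟨k, hk⟩ := hKt.exists_smul_eq a z
    have := (hKmem _).1 k.2 1
    rw [one_smul] at this
    exact hz (hk ▸ this ▸ Set.smul_mem_smul_set haB)
  -- `Γ` is a union of blocks
  have hnotin : ¬ Γ ⊆ B := by
    intro hΓB
    have hKh : h₀ ∈ K := by
      rw [hKmem]
      intro g
      by_cases hg : g • B = B
      · rw [hg]
        exact hB.smul_eq_of_mem haB (by rw [hh₀a]; exact hΓB ha')
      · have hd : Disjoint (g • B) B := (MulAction.isBlock_iff_smul_eq_or_disjoint.1 hB g).resolve_left hg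
        have hfix : ∀ z ∈ g • B, h₀ • z = z := fun z hz =>
          hh₀ z (fun hzΓ => Set.disjoint_left.1 hd hz (hΓB hzΓ))
        ext z
        constructor
        · rintro ⟨w, hw, rfl⟩
          show h₀ • w ∈ g • B
          rwa [hfix w hw]
        · exact fun hz => ⟨z, hz, hfix z hz⟩
    rw [hK, Subgroup.mem_bot] at hKh
    exact hne hKh
  have hunion : ∀ g : G, (g • B ∩ Γ).Nonempty → g • B ⊆ Γ := by
    intro g ⟨y, hy, hyΓ⟩ z hz
    by_contra hzΓ
    have hgB : MulAction.IsBlock G (g • B) := hB.translate g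
    have hΓg : Γ ⊆ g • B := fun w hw => by
      obtain ⟨j, hj, hjw⟩ := hJ y hyΓ w hw
      have := hgB.smul_eq_of_mem hz (by rw [hj z hzΓ]; exact hz) (g := j)
      rw [← this, ← hjw]
      exact Set.smul_mem_smul_set hy
    rcases MulAction.isBlock_iff_smul_eq_or_disjoint.1 hB g with h | h
    · exact hnotin (h ▸ hΓg)
    · exact Set.disjoint_left.1 h (hΓg ha) haB
  -- the action on the blocks
  have hBne : B.Nonempty := ⟨a, haB⟩
  have hr : 2 ≤ B.ncard := (Set.one_lt_ncard_iff_nontrivial.2 (Set.not_subsingleton_iff.1 hnt.1))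
  haveI hXfin : Finite ↥(MulAction.orbit G B) := inferInstance
  have hmul : B.ncard * (MulAction.orbit G B).ncard = Nat.card Ω := hB.ncard_block_mul_ncard_orbit_eq hBne
  have hcX : Nat.card ↥(MulAction.orbit G B) = (MulAction.orbit G B).ncard := Nat.card_coe_set_eq _
  set m := (MulAction.orbit G B).ncard with hm
  have hblock : ∀ C : ↥(MulAction.orbit G B), MulAction.IsBlock G (C : Set Ω) := by
    rintro ⟨_, g, rfl⟩; exact hB.translate g
  have hCne : ∀ C : ↥(MulAction.orbit G B), (C : Set Ω).Nonempty := by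
    rintro ⟨_, g, rfl⟩; exact hBne.smul_set
  have hsmul : ∀ (x : G) (C : ↥(MulAction.orbit G B)),
      ((x • C : ↥(MulAction.orbit G B)) : Set Ω) = x • (C : Set Ω) := fun _ _ => rfl
  have hdisj : ∀ C D : ↥(MulAction.orbit G B), ∀ z, z ∈ (C : Set Ω) → z ∈ (D : Set Ω) → C = D := by
    rintro ⟨_, g, rfl⟩ ⟨_, g', rfl⟩ z hz hz'
    apply Subtype.ext
    by_contra hne
    exact Set.disjoint_left.1 (hB hne) hz hz'
  set Γ' : Set ↥(MulAction.orbit G B) := {C | (C : Set Ω) ⊆ Γ} with hΓ'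
  have hout : ∀ C : ↥(MulAction.orbit G B), C ∉ Γ' → ∀ z ∈ (C : Set Ω), z ∉ Γ := by
    rintro ⟨_, g, rfl⟩ hC z hz hzΓ
    exact hC (hunion g ⟨z, hz, hzΓ⟩)
  have hfixC : ∀ (x : G) (C : ↥(MulAction.orbit G B)), (∀ z ∈ (C : Set Ω), x • z = z) → x • C = C := by
    intro x C h
    obtain ⟨z, hz⟩ := hCne C
    exact hdisj _ _ z (by rw [hsmul]; exact ⟨z, hz, h z hz⟩) hz
  have hJ' : IsJordanSet G Γ' := by
    intro C hC D hD
    obtain ⟨c, hc⟩ := hCne C
    obtain ⟨d, hd⟩ := hCne D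
    obtain ⟨j, hj, hjc⟩ := hJ c (hC hc) d (hD hd)
    refine ⟨j, fun C' hC' => hfixC _ _ fun z hz => hj z (hout C' hC' z hz), ?_⟩
    exact hdisj _ _ d (by rw [hsmul]; exact ⟨c, hc, hjc⟩) hd
  have hg1 : 1 < Γ'.ncard := by
    obtain ⟨z, hzΓ, hzB⟩ := Set.not_subset.1 hnotin
    obtain ⟨g, hg⟩ := MulAction.exists_smul_eq G a z
    have hzgB : z ∈ g • B := ⟨a, haB, hg⟩
    refine (Set.one_lt_ncard (Set.toFinite _)).2 ⟨⟨B, MulAction.mem_orbit_self B⟩, ?_,
      ⟨g • B, MulAction.mem_orbit B g⟩, hunion g ⟨z, hzgB, hzΓ⟩, ?_⟩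
    · have := hunion 1 (by rw [one_smul]; exact ⟨a, haB, ha⟩)
      rwa [one_smul] at this
    · intro h
      have e : B = g • B := congrArg Subtype.val h
      exact hzB (e ▸ hzgB)
  have hgr : B.ncard * Γ'.ncard ≤ Γ.ncard := by
    have hU : (⋃ C ∈ Γ', (C : Set Ω)).ncard = B.ncard * Γ'.ncard := by
      rw [(Set.toFinite Γ').ncard_biUnion (fun _ _ => Set.toFinite _) (by
        intro C _ D _ hCD
        rw [Function.onFun, Set.disjoint_left]
        exact fun z hz hz' => hCD (hdisj C D z hz hz'))]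
      rw [finsum_mem_eq_finite_toFinset_sum _ (Set.toFinite _),
        Finset.sum_congr rfl (g := fun _ => B.ncard) (fun C _ => by
          obtain ⟨_, g, rfl⟩ := C; exact Set.ncard_smul_set _ _),
        Finset.sum_const, smul_eq_mul, ← Set.ncard_eq_toFinset_card _ (Set.toFinite _), mul_comm]
    rw [← hU]
    exact Set.ncard_le_ncard (Set.iUnion₂_subset fun C hC => hC) (Set.toFinite _)
  have hg2 : 2 * Γ'.ncard < m := by
    by_contra h
    have : B.ncard * m ≤ B.ncard * (2 * Γ'.ncard) := Nat.mul_le_mul_left _ (by omega)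
    rw [Nat.mul_left_comm] at this
    omega
  have hmn : m < n := by
    have : 2 * m ≤ B.ncard * m := Nat.mul_le_mul_right _ hr
    omega
  haveI hfaith : FaithfulSMul G ↥(MulAction.orbit G B) := ⟨fun {x y} hxy => by
    have hxyK : y⁻¹ * x ∈ K := by
      rw [hKmem]
      intro g
      have := congrArg (fun C : ↥(MulAction.orbit G B) => y⁻¹ • (C : Set Ω))
        (hxy ⟨g • B, MulAction.mem_orbit B g⟩)
      simp only [hsmul, inv_smul_smul] at this
      rwa [mul_smul]
    rw [hK, Subgroup.mem_bot, inv_mul_eq_one] at hxyK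
    exact hxyK.symm⟩
  have hqp' : ∀ N : Subgroup G, N.Normal → N ≠ ⊥ →
      MulAction.IsPretransitive ↥N ↥(MulAction.orbit G B) := fun N hN hN' => ⟨fun C D => by
    obtain ⟨c, hc⟩ := hCne C
    obtain ⟨d, hd⟩ := hCne D
    obtain ⟨x, hx⟩ := (hqp N hN hN').exists_smul_eq c d
    exact ⟨x, hdisj _ _ d (show d ∈ (x : G) • (C : Set Ω) from ⟨c, hc, hx⟩) hd⟩⟩
  have hp' := ih m hmn G _ Γ' hcX hqp' hJ' hg1 hg2
  letI := Fintype.ofFinite ↥(MulAction.orbit G B)
  have hAlt := alternatingGroup_le_range hJ' hp' hg1 (by rw [hcX]; exact hg2)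
  set φ := MulAction.toPermHom G ↥(MulAction.orbit G B) with hφ
  have hφinj : Function.Injective φ := MulAction.toPerm_injective
  -- a block `B₀` outside `Γ`, and two more blocks outside
  obtain ⟨B₀, hB₀⟩ : Γ'ᶜ.Nonempty := Set.nonempty_of_ncard_ne_zero (by rw [Set.ncard_compl, hcX]; omega)
  obtain ⟨E, ⟨hEΓ, hEB⟩, F, ⟨hFΓ, hFB⟩, hEF⟩ := (Set.one_lt_ncard (Set.toFinite (Γ'ᶜ \ {B₀}))).1 (by
    rw [Set.ncard_sdiff_singleton_of_mem hB₀, Set.ncard_compl, hcX]; omega)
  obtain ⟨C, hC, D, hD, hCD⟩ := (Set.one_lt_ncard (Set.toFinite _)).1 hg1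
  obtain ⟨c, hc⟩ := hCne C
  obtain ⟨d, hd⟩ := hCne D
  obtain ⟨j, hjΓ, hjc⟩ := hJ c (hC hc) d (hD hd)
  have hj : ∀ C' ∉ Γ', j • C' = C' :=
    fun C' hC' => hfixC _ _ fun z hz => hjΓ z (hout C' hC' z hz)
  have hjC : j • C = D := hdisj _ _ d (by rw [hsmul]; exact ⟨c, hc, hjc⟩) hd
  have hB₀C : B₀ ≠ C := fun h => hB₀ (h ▸ hC)
  have hB₀D : B₀ ≠ D := fun h => hB₀ (h ▸ hD)
  have hEC : E ≠ C := fun h => hEΓ (h ▸ hC)
  have hED : E ≠ D := fun h => hEΓ (h ▸ hD)
  have hFC : F ≠ C := fun h => hFΓ (h ▸ hC)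
  -- elements fixing `B₀` pointwise, as permutations of the other blocks
  let Q : Subgroup (Equiv.Perm {C : ↥(MulAction.orbit G B) // C ≠ B₀}) :=
    ((fixingSubgroup G (B₀ : Set Ω)).map φ).comap Equiv.Perm.ofSubtype
  have hconjQ : ∀ σ, Equiv.Perm.sign σ = 1 → ∀ τ ∈ Q, σ * τ * σ⁻¹ ∈ Q := by
    intro σ hσ τ ⟨x, hx, hxτ⟩
    obtain ⟨s, hs⟩ := hAlt (x := Equiv.Perm.ofSubtype σ)
      (by rw [Equiv.Perm.mem_alternatingGroup, Equiv.Perm.sign_ofSubtype, hσ])
    refine ⟨s * x * s⁻¹, ?_, ?_⟩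
    · have hsB : s • B₀ = B₀ := by
        show φ s B₀ = B₀
        rw [hs]
        exact Equiv.Perm.ofSubtype_apply_of_not_mem σ (by simp)
      rw [SetLike.mem_coe, mem_fixingSubgroup_iff]
      intro z hz
      have hz' : s⁻¹ • z ∈ (B₀ : Set Ω) := by
        rw [← hsB, hsmul] at hz
        exact Set.mem_smul_set_iff_inv_smul_mem.1 hz
      rw [mul_smul, mul_smul, (mem_fixingSubgroup_iff G).1 hx _ hz', smul_inv_smul]
    · rw [map_mul, map_mul, map_inv, hxτ, hs, ← map_inv, ← map_mul, ← map_mul]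
  let C₁ : {C : ↥(MulAction.orbit G B) // C ≠ B₀} := ⟨C, Ne.symm hB₀C⟩
  let D₁ : {C : ↥(MulAction.orbit G B) // C ≠ B₀} := ⟨D, Ne.symm hB₀D⟩
  let E₁ : {C : ↥(MulAction.orbit G B) // C ≠ B₀} := ⟨E, hEB⟩
  have hs₁ : Equiv.Perm.ofSubtype (Equiv.swap E₁ D₁ * Equiv.swap E₁ C₁) =
      Equiv.swap E D * Equiv.swap E C := by
    rw [map_mul, Equiv.Perm.ofSubtype_swap_eq, Equiv.Perm.ofSubtype_swap_eq]
  have hτQ : Equiv.swap E₁ D₁ * Equiv.swap E₁ C₁ ∈ Q := by
    obtain ⟨x, hx⟩ := hAlt (x := Equiv.swap C E * Equiv.swap E F)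
      (by rw [Equiv.Perm.mem_alternatingGroup, map_mul, Equiv.Perm.sign_swap (Ne.symm hEC),
        Equiv.Perm.sign_swap hEF]; rfl)
    have hjfix : ∀ C' ∉ Γ', φ j C' = C' := fun C' hC' => hj C' hC'
    refine ⟨j * x * j⁻¹ * x⁻¹, ?_, ?_⟩
    · have hxB : x • B₀ = B₀ := by
        show φ x B₀ = B₀
        rw [hx, Equiv.Perm.mul_apply, Equiv.swap_apply_of_ne_of_ne (Ne.symm hEB) (Ne.symm hFB),
          Equiv.swap_apply_of_ne_of_ne hB₀C (Ne.symm hEB)]
      have hjj : ∀ z ∈ (B₀ : Set Ω), j • z = z := fun z hz => hjΓ z (hout B₀ hB₀ z hz)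
      rw [SetLike.mem_coe, mem_fixingSubgroup_iff]
      intro z hz
      have hz' : x⁻¹ • z ∈ (B₀ : Set Ω) := by
        rw [← hxB, hsmul] at hz
        exact Set.mem_smul_set_iff_inv_smul_mem.1 hz
      rw [mul_smul, mul_smul, mul_smul, inv_smul_eq_iff.2 (hjj _ hz').symm, smul_inv_smul, hjj z hz]
    · have e1 : φ j * (Equiv.swap C E * Equiv.swap E F) * (φ j)⁻¹ = Equiv.swap D E * Equiv.swap E F := by
        have h1 := Equiv.swap_apply_apply (φ j) C E
        have h2 := Equiv.swap_apply_apply (φ j) E F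
        have hjCD : φ j C = D := hjC
        rw [hjCD, hjfix E hEΓ] at h1
        rw [hjfix E hEΓ, hjfix F hFΓ] at h2
        conv_rhs => rw [h1, h2]
        group
      rw [map_mul, map_mul, map_mul, map_inv, map_inv, hx, e1, hs₁, mul_inv_rev, Equiv.swap_inv,
        Equiv.swap_inv, mul_assoc, Equiv.swap_mul_self_mul, Equiv.swap_comm D E, Equiv.swap_comm C E]
  have hτ3 : (Equiv.swap E₁ D₁ * Equiv.swap E₁ C₁).IsThreeCycle :=
    Equiv.Perm.isThreeCycle_swap_mul_swap_same (fun h => hED (congrArg Subtype.val h))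
      (fun h => hEC (congrArg Subtype.val h)) (fun h => hCD (congrArg Subtype.val h).symm)
  have hQ : alternatingGroup {C : ↥(MulAction.orbit G B) // C ≠ B₀} ≤ Q := by
    rw [← Equiv.Perm.closure_three_cycles_eq_alternating, Subgroup.closure_le]
    intro τ' hτ'
    obtain ⟨σ, hσ⟩ := isConj_iff.1 (Equiv.Perm.isConj_of_cycleType_eq
      (hτ3.cycleType.trans (Eq.symm hτ'.cycleType)))
    rcases Int.units_eq_one_or (Equiv.Perm.sign σ) with h | h
    · exact hσ ▸ hconjQ σ h _ hτQ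
    · have h' := hconjQ (σ * Equiv.swap E₁ D₁) (by
        rw [map_mul, h, Equiv.Perm.sign_swap fun e => hED (congrArg Subtype.val e)]; rfl) _ hτQ
      have e : σ * Equiv.swap E₁ D₁ * (Equiv.swap E₁ D₁ * Equiv.swap E₁ C₁) *
          (σ * Equiv.swap E₁ D₁)⁻¹ = τ'⁻¹ := by
        rw [← hσ]
        simp only [mul_inv_rev, Equiv.swap_inv, mul_assoc, Equiv.swap_mul_self_mul, inv_inv]
      rw [e] at h'
      exact (Subgroup.inv_mem_iff Q).1 h'
  -- the even elements form a transitive normal subgroup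
  set N := (alternatingGroup ↥(MulAction.orbit G B)).comap φ with hN
  have hNne : N ≠ ⊥ := by
    intro hN'
    obtain ⟨x, hx⟩ := hAlt (x := Equiv.swap C E * Equiv.swap E F)
      (by rw [Equiv.Perm.mem_alternatingGroup, map_mul, Equiv.Perm.sign_swap (Ne.symm hEC),
        Equiv.Perm.sign_swap hEF]; rfl)
    have hxN : x ∈ N := by
      rw [hN, Subgroup.mem_comap, hx, Equiv.Perm.mem_alternatingGroup, map_mul,
        Equiv.Perm.sign_swap (Ne.symm hEC), Equiv.Perm.sign_swap hEF]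
      rfl
    rw [hN', Subgroup.mem_bot] at hxN
    rw [hxN, map_one] at hx
    have := Equiv.congr_fun hx F
    simp only [Equiv.Perm.coe_one, id_eq, Equiv.Perm.mul_apply, Equiv.swap_apply_right] at this
    exact hFC this
  have hNt := hqp N inferInstance hNne
  obtain ⟨p, hp, q, hq, hpq⟩ := (Set.one_lt_ncard (Set.toFinite (B₀ : Set Ω))).1 (by
    obtain ⟨_, g, hg⟩ := B₀
    subst hg
    show 1 < (g • B).ncard
    rw [Set.ncard_smul_set]; omega)
  obtain ⟨⟨x, hx⟩, hxpq⟩ := hNt.exists_smul_eq p q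
  replace hxpq : x • p = q := hxpq
  have hxB : x • B₀ = B₀ := hdisj _ _ q (by rw [hsmul]; exact ⟨p, hp, hxpq⟩) hq
  have hmaps : ∀ C', C' ≠ B₀ ↔ φ x C' ≠ B₀ := fun C' => by
    conv_rhs => rw [show φ x C' = x • C' from rfl, ← hxB]
    rw [ne_eq, ne_eq, smul_left_cancel_iff]
  let ρ := (φ x).subtypePerm (p := fun C' => C' ≠ B₀) fun C' => (hmaps C').symm
  have hρ : Equiv.Perm.ofSubtype ρ = φ x := Equiv.Perm.ofSubtype_subtypePerm _ fun C' hC' h => by
    subst h; exact hC' hxB
  obtain ⟨y, hy, hyρ⟩ := hQ (x := ρ) (by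
    rw [Equiv.Perm.mem_alternatingGroup, ← Equiv.Perm.sign_ofSubtype ρ, hρ]
    exact hx)
  rw [hρ] at hyρ
  obtain rfl := hφinj hyρ
  exact hpq ((mem_fixingSubgroup_iff G).1 hy p hp ▸ hxpq)

end Cfsg.Agent.Lib.Marggraf
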