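import Mathlib

/-!
Jordan sets of a multiply transitive group: the closure of a point set relative to the
complements of the translates of a Jordan set, and the raising of the degree of transitivity.
-/

set_option autoImplicit false

namespace Cfsg.Agent.Lib.Marggraf

open Pointwise

variable {G Ω : Type*} [Group G] [MulAction G Ω]

/-- The pointwise stabiliser of the complement of `Γ` is transitive on `Γ`. -/
def IsJordanSet (G : Type*) {Ω : Type*} [Group G] [MulAction G Ω] (Γ : Set Ω) : Prop :=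
  ∀ x ∈ Γ, ∀ y ∈ Γ, ∃ g : G, (∀ z ∉ Γ, g • z = z) ∧ g • x = y

theorem isJordanSet_of_isPretransitive {Γ : Set Ω}
    (h : MulAction.IsPretransitive ↥(fixingSubgroup G Γᶜ) ↥(SubMulAction.ofFixingSubgroup G Γᶜ)) :
    IsJordanSet G Γ := by
  intro x hx y hy
  have hmem : ∀ z ∈ Γ, z ∈ SubMulAction.ofFixingSubgroup G Γᶜ := fun z hz => by
    rw [SubMulAction.mem_ofFixingSubgroup_iff]; exact fun h => h hz
  obtain ⟨g, hg⟩ := h.exists_smul_eq ⟨x, hmem x hx⟩ ⟨y, hmem y hy⟩
  exact ⟨g, fun z hz => (mem_fixingSubgroup_iff G).1 g.2 z hz, congrArg Subtype.val hg⟩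

theorem IsJordanSet.isPretransitive {Γ : Set Ω} (h : IsJordanSet G Γ) :
    MulAction.IsPretransitive ↥(fixingSubgroup G Γᶜ) ↥(SubMulAction.ofFixingSubgroup G Γᶜ) := by
  refine ⟨fun x y => ?_⟩
  have hx : (x : Ω) ∈ Γ := by
    have := x.2; rw [SubMulAction.mem_ofFixingSubgroup_iff] at this; exact not_not.1 this
  have hy : (y : Ω) ∈ Γ := by
    have := y.2; rw [SubMulAction.mem_ofFixingSubgroup_iff] at this; exact not_not.1 this
  obtain ⟨g, hg, hgx⟩ := h x hx y hy
  exact ⟨⟨g, (mem_fixingSubgroup_iff G).2 hg⟩, Subtype.ext hgx⟩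

theorem IsJordanSet.smul {Γ : Set Ω} (h : IsJordanSet G Γ) (k : G) : IsJordanSet G (k • Γ) := by
  intro x hx y hy
  obtain ⟨g, hg, hgx⟩ := h _ (Set.mem_smul_set_iff_inv_smul_mem.1 hx) _
    (Set.mem_smul_set_iff_inv_smul_mem.1 hy)
  refine ⟨k * g * k⁻¹, fun z hz => ?_, ?_⟩
  · rw [mul_smul, mul_smul, hg _ (fun h' => hz (Set.mem_smul_set_iff_inv_smul_mem.2 h')),
      smul_inv_smul]
  · rw [mul_smul, mul_smul, hgx, smul_inv_smul]

/-- The intersection of all complements of translates of `Γ` that contain `s`. -/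
def closureSet (G : Type*) {Ω : Type*} [Group G] [MulAction G Ω] (Γ s : Set Ω) : Set Ω :=
  {c | ∀ h : G, Disjoint (h • Γ) s → c ∉ h • Γ}

variable {Γ : Set Ω}

theorem subset_closureSet (s : Set Ω) : s ⊆ closureSet G Γ s :=
  fun _ hx _ hd h => Set.disjoint_left.1 hd h hx

theorem closureSet_subset {s t : Set Ω} (h : t ⊆ closureSet G Γ s) :
    closureSet G Γ t ⊆ closureSet G Γ s :=
  fun _ hc g hd => hc g (Set.disjoint_left.2 fun _ hz hzt => h hzt g hd hz)

theorem closureSet_smul (g : G) (s : Set Ω) :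
    closureSet G Γ (g • s) = g • closureSet G Γ s := by
  ext c
  rw [Set.mem_smul_set_iff_inv_smul_mem]
  constructor
  · intro hc h hd hm
    refine hc (g * h) ?_ ?_
    · rw [mul_smul]; exact Set.disjoint_smul_set.2 hd
    · rwa [mul_smul, Set.mem_smul_set_iff_inv_smul_mem]
  · intro hc h hd hm
    refine hc (g⁻¹ * h) ?_ ?_
    · rw [mul_smul, ← inv_smul_smul g s]; exact Set.disjoint_smul_set.2 hd
    · rw [mul_smul]; exact Set.smul_mem_smul_set hm

theorem closureSet_subset_compl {s : Set Ω} (h : Disjoint Γ s) : closureSet G Γ s ⊆ Γᶜ := by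
  intro c hc
  have := hc 1 (by rwa [one_smul])
  rwa [one_smul] at this

/-- A `k`-transitive group is transitive on `k`-point subsets, with one point marked. -/
theorem exists_smul_set_eq [Finite Ω] {k : ℕ} (hk : MulAction.IsMultiplyPretransitive G Ω k)
    {s t : Set Ω} (hs : s.ncard = t.ncard) (hle : s.ncard ≤ k) (hk' : k ≤ Nat.card Ω) :
    ∃ g : G, g • s = t := by
  classical
  have : MulAction.IsMultiplyPretransitive G Ω k := hk
  have : MulAction.IsMultiplyPretransitive G Ω s.ncard :=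
    MulAction.isMultiplyPretransitive_of_le' hle (by rw [ENat.card_eq_coe_natCard]; exact_mod_cast hk')
  let es : s ≃ Fin s.ncard := Finite.equivFinOfCardEq (Nat.card_coe_set_eq s)
  let et : t ≃ Fin s.ncard := Finite.equivFinOfCardEq (by rw [Nat.card_coe_set_eq, hs])
  obtain ⟨g, hg⟩ := (inferInstance : MulAction.IsPretransitive G (Fin s.ncard ↪ Ω)).exists_smul_eq
    (es.symm.toEmbedding.trans (Function.Embedding.subtype _))
    (et.symm.toEmbedding.trans (Function.Embedding.subtype _))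
  refine ⟨g, Set.eq_of_subset_of_ncard_le ?_ (by rw [Set.ncard_smul_set, hs]) (Set.toFinite _)⟩
  rintro _ ⟨x, hx, rfl⟩
  have := DFunLike.congr_fun hg (es ⟨x, hx⟩)
  simp only [Function.Embedding.smul_apply, Function.Embedding.trans_apply, Equiv.coe_toEmbedding,
    Equiv.symm_apply_apply, Function.Embedding.coe_subtype] at this
  show g • x ∈ t
  rw [this]
  exact Subtype.coe_prop _

/-- The same, with a marked point outside each set. -/
theorem exists_smul_set_eq_of_notMem [Finite Ω] {k : ℕ}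
    (hk : MulAction.IsMultiplyPretransitive G Ω k) {s t : Set Ω} (hs : s.ncard = t.ncard)
    (hle : s.ncard + 1 ≤ k) (hk' : k ≤ Nat.card Ω) {a b : Ω} (ha : a ∉ s) (hb : b ∉ t) :
    ∃ g : G, g • s = t ∧ g • a = b := by
  classical
  have : MulAction.IsMultiplyPretransitive G Ω k := hk
  have : MulAction.IsMultiplyPretransitive G Ω (s.ncard + 1) :=
    MulAction.isMultiplyPretransitive_of_le' hle (by rw [ENat.card_eq_coe_natCard]; exact_mod_cast hk')
  let es : s ≃ Fin s.ncard := Finite.equivFinOfCardEq (Nat.card_coe_set_eq s)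
  let et : t ≃ Fin s.ncard := Finite.equivFinOfCardEq (by rw [Nat.card_coe_set_eq, hs])
  let fs : Fin (s.ncard + 1) ↪ Ω := ⟨Fin.snoc (fun i => (es.symm i : Ω)) a, by
    rw [Fin.snoc_injective_iff]
    exact ⟨Subtype.val_injective.comp es.symm.injective, by
      rintro ⟨i, hi⟩; exact ha (hi ▸ Subtype.coe_prop _)⟩⟩
  let ft : Fin (s.ncard + 1) ↪ Ω := ⟨Fin.snoc (fun i => (et.symm i : Ω)) b, by
    rw [Fin.snoc_injective_iff]
    exact ⟨Subtype.val_injective.comp et.symm.injective, by
      rintro ⟨i, hi⟩; exact hb (hi ▸ Subtype.coe_prop _)⟩⟩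
  obtain ⟨g, hg⟩ :=
    (inferInstance : MulAction.IsPretransitive G (Fin (s.ncard + 1) ↪ Ω)).exists_smul_eq fs ft
  have hga : g • a = b := by
    have := DFunLike.congr_fun hg (Fin.last _)
    simpa [fs, ft, Function.Embedding.smul_apply] using this
  refine ⟨g, Set.eq_of_subset_of_ncard_le ?_ (by rw [Set.ncard_smul_set, hs]) (Set.toFinite _), hga⟩
  rintro _ ⟨x, hx, rfl⟩
  have := DFunLike.congr_fun hg (Fin.castSucc (es ⟨x, hx⟩))
  simp only [fs, ft, Function.Embedding.smul_apply, Function.Embedding.coeFn_mk, Fin.snoc_castSucc,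
    Equiv.symm_apply_apply] at this
  show g • x ∈ t
  rw [this]
  exact Subtype.coe_prop _

/-- Equality of closures of `k`-sets, one inside the closure of the other. -/
theorem closureSet_eq_of_subset [Finite Ω] {k : ℕ} (hk : MulAction.IsMultiplyPretransitive G Ω k)
    (hk' : k ≤ Nat.card Ω) {s t : Set Ω} (hs : s.ncard = k) (ht : t.ncard = k)
    (h : t ⊆ closureSet G Γ s) : closureSet G Γ t = closureSet G Γ s := by
  obtain ⟨g, hg⟩ := exists_smul_set_eq hk (hs.trans ht.symm) hs.le hk'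
  refine Set.eq_of_subset_of_ncard_le (closureSet_subset h) ?_ (Set.toFinite _)
  rw [← hg, closureSet_smul, Set.ncard_smul_set]

/-- The dichotomy for a block of the stabiliser of the points of `s`. -/
theorem IsJordanSet.subset_or_subset_block (hJ : IsJordanSet G Γ) {s B : Set Ω}
    (hB : ∀ g ∈ fixingSubgroup G s, ∀ z ∈ B, g • z ∈ B → g • B = B) {h : G}
    (hd : Disjoint (h • Γ) s) (hm : (h • Γ ∩ B).Nonempty) : h • Γ ⊆ B ∨ B ⊆ h • Γ := by
  by_contra hcon
  simp only [not_or, Set.not_subset] at hcon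
  obtain ⟨⟨y, hyT, hyB⟩, z, hzB, hzT⟩ := hcon
  obtain ⟨b, hbT, hbB⟩ := hm
  obtain ⟨g, hg, hgb⟩ := hJ.smul h b hbT y hyT
  have hgs : g ∈ fixingSubgroup G s :=
    (mem_fixingSubgroup_iff G).2 fun w hw => hg w fun hwT => Set.disjoint_left.1 hd hwT hw
  have hgB := hB g hgs z hzB (by rw [hg z hzT]; exact hzB)
  exact hyB (hgB ▸ ⟨b, hbB, hgb⟩)

/-- A primitive group with a Jordan set is doubly transitive. -/
theorem IsJordanSet.two_pretransitive [Finite Ω] (hJ : IsJordanSet G Γ)
    (hp : MulAction.IsPreprimitive G Ω) (h1 : 1 < Γ.ncard) (h2 : Γ.ncard < Nat.card Ω) :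
    MulAction.IsMultiplyPretransitive G Ω 2 := by
  have hc := Set.ncard_add_ncard_compl Γ
  obtain ⟨n, hn⟩ : ∃ n, Γᶜ.ncard = n + 1 := ⟨Γᶜ.ncard - 1, by omega⟩
  exact hp.is_two_pretransitive hn (by omega) hJ.isPretransitive

/-- Either the degree of transitivity goes up, or the stabiliser of `k - 1` points has a block. -/
theorem succ_pretransitive_or_block [Finite Ω] {j : ℕ} (hJ : IsJordanSet G Γ)
    (hk : MulAction.IsMultiplyPretransitive G Ω (j + 1)) (h1 : 1 < Γ.ncard)
    (hj : Γ.ncard + j < Nat.card Ω) :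
    MulAction.IsMultiplyPretransitive G Ω (j + 2) ∨
      ∃ s B : Set Ω, s.ncard = j ∧ Disjoint B s ∧ 1 < B.ncard ∧
        (∀ g ∈ fixingSubgroup G s, ∀ z ∈ B, g • z ∈ B → g • B = B) ∧
        ∃ g ∈ fixingSubgroup G s, Disjoint B (g • B) ∧ Disjoint (g • B) s := by
  classical
  obtain ⟨s, hsΓ, hs⟩ := Set.exists_subset_card_eq (s := Γᶜ) (n := j)
    (by have := Set.ncard_add_ncard_compl Γ; omega)
  set K := fixingSubgroup G s with hK
  set X := SubMulAction.ofFixingSubgroup G s with hX
  have hmemX : ∀ z, z ∈ X ↔ z ∉ s := fun z => SubMulAction.mem_ofFixingSubgroup_iff G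
  have htr : MulAction.IsPretransitive K X := ⟨fun x y => by
    let f : Fin j → Ω := fun i => ((Finite.equivFinOfCardEq (Nat.card_coe_set_eq s ▸ hs) :
      s ≃ Fin j).symm i : Ω)
    have hf : Function.Injective f := Subtype.val_injective.comp (Equiv.injective _)
    have hfm : ∀ i, f i ∈ s := fun i => Subtype.coe_prop _
    let fx : Fin (j + 1) ↪ Ω := ⟨Fin.snoc f x, by
      rw [Fin.snoc_injective_iff]
      exact ⟨hf, by rintro ⟨i, hi⟩; exact (hmemX _).1 x.2 (hi ▸ hfm i)⟩⟩
    let fy : Fin (j + 1) ↪ Ω := ⟨Fin.snoc f y, by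
      rw [Fin.snoc_injective_iff]
      exact ⟨hf, by rintro ⟨i, hi⟩; exact (hmemX _).1 y.2 (hi ▸ hfm i)⟩⟩
    obtain ⟨g, hg⟩ :=
      (inferInstance : MulAction.IsPretransitive G (Fin (j + 1) ↪ Ω)).exists_smul_eq fx fy
    have hgs : g ∈ K := (mem_fixingSubgroup_iff G).2 fun z hz => by
      have := DFunLike.congr_fun hg (Fin.castSucc
        ((Finite.equivFinOfCardEq (Nat.card_coe_set_eq s ▸ hs) : s ≃ Fin j) ⟨z, hz⟩))
      simpa [fx, fy, f, Function.Embedding.smul_apply] using this
    refine ⟨⟨g, hgs⟩, Subtype.ext ?_⟩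
    have := DFunLike.congr_fun hg (Fin.last _)
    simpa [fx, fy, Function.Embedding.smul_apply, MulAction.subgroup_smul_def] using this⟩
  by_cases hp : MulAction.IsPreprimitive K X
  · left
    set Γ' : Set X := Subtype.val ⁻¹' Γ with hΓ'
    have hJ' : IsJordanSet K Γ' := by
      intro x hx y hy
      obtain ⟨g, hg, hgx⟩ := hJ x hx y hy
      exact ⟨⟨g, (mem_fixingSubgroup_iff G).2 fun z hz => hg z (hsΓ hz)⟩,
        fun z hz => Subtype.ext (hg z hz), Subtype.ext hgx⟩
    have hc' : Γ'.ncard = Γ.ncard := by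
      rw [hΓ', Set.ncard_preimage_of_injective_subset_range Subtype.val_injective]
      intro z hz
      exact ⟨⟨z, (hmemX z).2 fun h => hsΓ h hz⟩, rfl⟩
    have hcX : Nat.card X = Nat.card Ω - j := by
      have h : (Subtype.val '' (Set.univ : Set X)) = sᶜ := by
        ext z
        simp only [Set.image_univ, Subtype.range_coe_subtype, Set.mem_ofPred_eq, Set.mem_compl_iff]
        exact hmemX z
      have hc := Set.ncard_image_of_injective (Set.univ : Set X) Subtype.val_injective
      rw [h, Set.ncard_univ, Set.ncard_compl, hs] at hc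
      omega
    have h2 := hJ'.two_pretransitive hp (by omega) (by omega)
    refine ⟨fun x y => ?_⟩
    -- first move the initial `j` points, pointwise
    have : MulAction.IsMultiplyPretransitive G Ω (j + 1) := hk
    have : MulAction.IsMultiplyPretransitive G Ω j :=
      MulAction.isMultiplyPretransitive_of_le' (Nat.le_succ j)
        (by rw [ENat.card_eq_coe_natCard]; exact_mod_cast (by omega : j + 1 ≤ Nat.card Ω))
    let e : Fin j ↪ Ω := ⟨fun i => ((Finite.equivFinOfCardEq (Nat.card_coe_set_eq s ▸ hs) :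
      s ≃ Fin j).symm i : Ω), Subtype.val_injective.comp (Equiv.injective _)⟩
    obtain ⟨g, hg⟩ := (inferInstance : MulAction.IsPretransitive G (Fin j ↪ Ω)).exists_smul_eq
      ((Fin.castAddEmb 2).trans x) e
    obtain ⟨k, hk'⟩ := (inferInstance : MulAction.IsPretransitive G (Fin j ↪ Ω)).exists_smul_eq
      ((Fin.castAddEmb 2).trans y) e
    have hnot : ∀ (w : Fin (j + 2) ↪ Ω) (g : G), g • ((Fin.castAddEmb 2).trans w) = e →
        ∀ i : Fin 2, g • w (Fin.natAdd j i) ∈ X := by
      intro w g hg i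
      rw [hmemX]
      intro hm
      have := DFunLike.congr_fun hg
        ((Finite.equivFinOfCardEq (Nat.card_coe_set_eq s ▸ hs) : s ≃ Fin j) ⟨_, hm⟩)
      simp only [e, Function.Embedding.smul_apply, Function.Embedding.trans_apply,
        Function.Embedding.coeFn_mk, Equiv.symm_apply_apply, smul_left_cancel_iff,
        EmbeddingLike.apply_eq_iff_eq, Fin.coe_castAddEmb] at this
      have := congrArg Fin.val this
      simp only [Fin.val_castAdd, Fin.val_natAdd] at this
      omega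
    let u : Fin 2 ↪ X := ⟨fun i => ⟨_, hnot x g hg i⟩, fun a b h => by
      simpa using congrArg Subtype.val h⟩
    let v : Fin 2 ↪ X := ⟨fun i => ⟨_, hnot y k hk' i⟩, fun a b h => by
      simpa using congrArg Subtype.val h⟩
    obtain ⟨m, hm⟩ := h2.exists_smul_eq u v
    refine ⟨k⁻¹ * (m : G) * g, Function.Embedding.ext fun i => ?_⟩
    rw [Function.Embedding.smul_apply, mul_smul, mul_smul, inv_smul_eq_iff]
    induction i using Fin.addCases with
    | left i =>
      have hi := DFunLike.congr_fun hg i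
      have hi' := DFunLike.congr_fun hk' i
      simp only [Function.Embedding.smul_apply, Function.Embedding.trans_apply,
        Fin.coe_castAddEmb] at hi hi'
      rw [hi, hi']
      exact (mem_fixingSubgroup_iff G).1 m.2 _ (Subtype.coe_prop _)
    | right i =>
      exact congrArg Subtype.val (DFunLike.congr_fun hm i)
  · right
    obtain ⟨B, hB, hnt⟩ : ∃ B : Set X, MulAction.IsBlock K B ∧ ¬ MulAction.IsTrivialBlock B := by
      by_contra h
      push Not at h
      exact hp { htr with isTrivialBlock_of_isBlock := fun {B} hB => h B hB }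
    simp only [MulAction.IsTrivialBlock, not_or] at hnt
    obtain ⟨z₀, hz₀⟩ := (Set.ne_univ_iff_exists_notMem B).1 hnt.2
    obtain ⟨⟨x₀, hx₀⟩, hx₁⟩ := (Set.not_subsingleton_iff.1 hnt.1).nonempty, Set.not_subsingleton_iff.1 hnt.1
    obtain ⟨g₀, hg₀⟩ := htr.exists_smul_eq x₀ z₀
    refine ⟨s, Subtype.val '' B, hs, ?_, ?_, ?_, g₀, g₀.2, ?_, ?_⟩
    · rw [Set.disjoint_left]; rintro _ ⟨z, -, rfl⟩; exact (hmemX _).1 z.2
    · rw [Set.ncard_image_of_injective _ Subtype.val_injective]
      exact Set.one_lt_ncard_iff_nontrivial.2 hx₁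
    · intro g hg z hz hgz
      obtain ⟨z, hzB, rfl⟩ := hz
      obtain ⟨w, hwB, hw⟩ := hgz
      have h := hB.smul_eq_of_mem (g := (⟨g, hg⟩ : K)) hzB
        (by rwa [show (⟨g, hg⟩ : K) • z = w from Subtype.ext hw.symm])
      conv_rhs => rw [← h]
      ext v
      simp only [Set.mem_smul_set, Set.mem_image]
      constructor
      · rintro ⟨_, ⟨w', hw', rfl⟩, rfl⟩; exact ⟨_, ⟨w', hw', rfl⟩, rfl⟩
      · rintro ⟨_, ⟨w', hw', rfl⟩, rfl⟩; exact ⟨_, ⟨w', hw', rfl⟩, rfl⟩
    · rw [Set.disjoint_left]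
      rintro _ ⟨z, hzB, rfl⟩ ⟨_, ⟨w, hwB, rfl⟩, hw⟩
      have h := hB.smul_eq_of_mem (g := g₀) hwB
        (by rwa [show g₀ • w = z from Subtype.ext hw])
      exact hz₀ (by rw [← hg₀, ← h]; exact Set.smul_mem_smul_set hx₀)
    · rw [Set.disjoint_left]
      rintro _ ⟨_, ⟨w, -, rfl⟩, rfl⟩
      exact (hmemX _).1 (g₀ • w).2

end Cfsg.Agent.Lib.Marggraf
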