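import Cfsg.Agent.Lib.Marggraf.Closure

/-!
A Bochert-type descent: a highly transitive group with an element of small degree has an element
of degree at most three.
-/

set_option autoImplicit false

namespace Cfsg.Agent.Lib.Marggraf

open Pointwise

variable {G Ω : Type*} [Group G] [MulAction G Ω]

/-- The points moved by an element. -/
def movedSet (x : G) : Set Ω := {z | x • z ≠ z}

theorem smul_mem_movedSet {x : G} {z : Ω} : x • z ∈ movedSet (Ω := Ω) x ↔ z ∈ movedSet (Ω := Ω) x :=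
  ⟨fun h h' => h (by rw [h', h']), fun h h' => h (smul_left_cancel x h')⟩

theorem not_smul_mem_movedSet {x : G} {z : Ω} (h : z ∉ movedSet (Ω := Ω) x) : x • z = z :=
  not_not.1 h

variable [Finite Ω]

/-- In every set closed under `x` there are sets of every size with short boundary. -/
theorem exists_chain (x : G) {a b : Ω} (hab : x • a = b) (ha : a ∈ movedSet (Ω := Ω) x) :
    ∀ o : ℕ, 1 ≤ o → o < (movedSet (Ω := Ω) x).ncard →
      ∃ O : Set Ω, O ⊆ movedSet (Ω := Ω) x ∧ a ∉ O ∧ b ∈ O ∧ O.ncard = o ∧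
        {z | z ∈ O ∧ x • z ∉ O ∧ x • z ≠ a}.ncard ≤ 1 := by
  intro o h1 ho
  induction o, h1 using Nat.le_induction with
  | base =>
    refine ⟨{b}, Set.singleton_subset_iff.2 (hab ▸ smul_mem_movedSet.2 ha), ?_, rfl,
      Set.ncard_singleton b, (Set.ncard_le_ncard (t := {b}) (fun z hz => hz.1) (Set.toFinite _)).trans
        (Set.ncard_singleton b).le⟩
    simp only [Set.mem_singleton_iff]
    exact fun h => ha (hab.trans h.symm)
  | succ o _ ih =>
    obtain ⟨O, hOS, haO, hbO, hOc, hbd⟩ := ih (by omega)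
    obtain ⟨w, hwS, hwO, hwa, hw⟩ : ∃ w, w ∈ movedSet (Ω := Ω) x ∧ w ∉ O ∧ w ≠ a ∧
        ∀ z ∈ O, x • z ∉ O → x • z ≠ a → x • z = w := by
      by_cases he : ∃ z₀, z₀ ∈ O ∧ x • z₀ ∉ O ∧ x • z₀ ≠ a
      · obtain ⟨z₀, hz₀, hz₀', hz₀a⟩ := he
        refine ⟨x • z₀, smul_mem_movedSet.2 (hOS hz₀), hz₀', hz₀a, fun z hz hz' hza => ?_⟩
        rw [(Set.ncard_le_one (Set.toFinite _)).1 hbd z ⟨hz, hz', hza⟩ z₀ ⟨hz₀, hz₀', hz₀a⟩]
      · obtain ⟨w, hwS, hw⟩ := Set.exists_mem_notMem_of_ncard_lt_ncard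
          (s := insert a O) (t := movedSet (Ω := Ω) x)
          (by rw [Set.ncard_insert_of_notMem haO]; omega) (Set.toFinite _)
        simp only [Set.mem_insert_iff, not_or] at hw
        exact ⟨w, hwS, hw.2, hw.1, fun z hz hz' hza => absurd ⟨z, hz, hz', hza⟩ he⟩
    refine ⟨insert w O, Set.insert_subset hwS hOS, by simp [haO, Ne.symm hwa],
      Set.mem_insert_of_mem _ hbO, by rw [Set.ncard_insert_of_notMem hwO]; omega,
      (Set.ncard_le_ncard (t := {w}) ?_ (Set.toFinite _)).trans (Set.ncard_singleton w).le⟩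
    rintro z ⟨hz, hz', hza⟩
    simp only [Set.mem_insert_iff, not_or] at hz'
    rcases hz with rfl | hzO
    · exact Set.mem_singleton _
    · exact absurd (hw z hzO hz'.2 hza) hz'.1

/-- The commutator step. -/
theorem exists_smaller_movedSet {k : ℕ} (hk : MulAction.IsMultiplyPretransitive G Ω k) (x : G)
    (hn : 2 * (movedSet (Ω := Ω) x).ncard < Nat.card Ω) (hkm : (movedSet (Ω := Ω) x).ncard + 6 ≤ 2 * k + 1)
    (hkn : k ≤ Nat.card Ω) (hm : 4 ≤ (movedSet (Ω := Ω) x).ncard) :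
    ∃ c : G, 0 < (movedSet (Ω := Ω) c).ncard ∧
      (movedSet (Ω := Ω) c).ncard < (movedSet (Ω := Ω) x).ncard := by
  classical
  set S := movedSet (Ω := Ω) x with hS
  set m := S.ncard with hmdef
  obtain ⟨o, ho, ho1, hok, hoo⟩ : ∃ o, o < m ∧ 1 ≤ o ∧ o + 1 ≤ k ∧ (o + 1 = m ∨ m + 3 ≤ 2 * o) := by
    by_cases h : m / 2 + 2 ≤ m - 1
    · exact ⟨m / 2 + 2, by omega, by omega, by omega, Or.inr (by omega)⟩
    · exact ⟨m - 1, by omega, by omega, by omega, Or.inl (by omega)⟩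
  obtain ⟨a, ha⟩ : S.Nonempty := Set.nonempty_of_ncard_ne_zero (by omega)
  obtain ⟨O, hOS, haO, hbO, hOc, hbd⟩ := exists_chain x (a := a) rfl ha o ho1 ho
  have hF : Sᶜ.ncard = Nat.card Ω - m := Set.ncard_compl S
  obtain ⟨O', hO'F, hO'c⟩ := Set.exists_subset_card_eq (s := Sᶜ) (n := o) (by omega)
  obtain ⟨g, hgO, hga⟩ := exists_smul_set_eq_of_notMem hk (s := O) (t := O') (by rw [hOc, hO'c])
    (by omega) hkn haO (fun h => hO'F h ha : a ∉ O')
  set y := g⁻¹ * x * g with hy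
  have hmem : ∀ z, z ∈ movedSet (Ω := Ω) y ↔ g • z ∈ S := by
    intro z
    simp only [movedSet, hy, hS, Set.mem_ofPred_eq, mul_smul]
    rw [ne_eq, inv_smul_eq_iff]
  clear_value y
  set T := movedSet (Ω := Ω) y with hT
  have hOT : ∀ z ∈ O, z ∉ T := fun z hz h => by
    rw [hmem] at h
    exact hO'F (hgO ▸ Set.smul_mem_smul_set hz) h
  have haT : a ∈ T := by rw [hmem, hga]; exact ha
  set I := S ∩ T with hI
  have hiO : I.ncard + o ≤ m := by
    rw [← hOc, ← Set.ncard_union_eq (Set.disjoint_left.2 fun z hz hzO => hOT z hzO hz.2)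
      (Set.toFinite _) (Set.toFinite _)]
    exact Set.ncard_le_ncard (Set.union_subset Set.inter_subset_left hOS) (Set.toFinite _)
  -- the moved points of the commutator
  set c := (y * x)⁻¹ * (x * y) with hc
  have hcmem : ∀ z, z ∈ movedSet (Ω := Ω) c ↔ x • y • z ≠ y • x • z := by
    intro z
    rw [movedSet, Set.mem_ofPred_eq, hc, mul_smul, ne_eq, inv_smul_eq_iff, mul_smul, mul_smul]
  have hsub : movedSet (Ω := Ω) c ⊆ I ∪ {z | z ∈ S ∧ z ∉ T ∧ x • z ∈ T} ∪ y⁻¹ • I := by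
    intro z hz
    rw [hcmem] at hz
    by_contra hcon
    simp only [Set.mem_union, not_or, Set.mem_ofPred_eq, not_and, hI, Set.mem_inter_iff,
      Set.mem_smul_set_iff_inv_smul_mem, inv_inv] at hcon
    obtain ⟨⟨h1, h2⟩, h3⟩ := hcon
    by_cases hzT : z ∈ T
    · have hzS : z ∉ S := fun h => h1 h hzT
      have hyS : y • z ∉ S := fun h => h3 h (smul_mem_movedSet.2 hzT)
      rw [not_smul_mem_movedSet hzS, not_smul_mem_movedSet hyS] at hz
      exact hz rfl
    · rw [not_smul_mem_movedSet hzT] at hz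
      by_cases hzS : z ∈ S
      · rw [not_smul_mem_movedSet (x := y) (h2 hzS hzT)] at hz
        exact hz rfl
      · rw [not_smul_mem_movedSet hzS, not_smul_mem_movedSet hzT] at hz
        exact hz rfl
  have hle : (movedSet (Ω := Ω) c).ncard ≤
      I.ncard + {z | z ∈ S ∧ z ∉ T ∧ x • z ∈ T}.ncard + I.ncard := by
    refine (Set.ncard_le_ncard hsub (Set.toFinite _)).trans ?_
    refine (Set.ncard_union_le _ _).trans ?_
    rw [Set.ncard_smul_set]
    exact Nat.add_le_add_right (Set.ncard_union_le _ _) _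
  have hI3 : {z | z ∈ S ∧ z ∉ T ∧ x • z ∈ T}.ncard ≤ I.ncard := by
    refine Set.ncard_le_ncard_of_injOn (fun z => x • z) (fun z hz => ?_)
      (fun z _ w _ h => smul_left_cancel x h) (Set.toFinite _)
    exact ⟨smul_mem_movedSet.2 hz.1, hz.2.2⟩
  have hout : {z | z ∈ S ∧ z ∉ T ∧ x • z ∈ T}.ncard + I.ncard + o ≤ m + 2 := by
    set E := {z | z ∈ S ∧ z ∉ T ∧ x • z ∈ T} with hE
    have h1 : (E \ O).ncard + I.ncard + o ≤ m := by
      rw [← hOc, ← Set.ncard_union_eq (Set.disjoint_left.2 fun z hz hzI => hz.1.2.1 hzI.2)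
          (Set.toFinite _) (Set.toFinite _),
        ← Set.ncard_union_eq (Set.disjoint_left.2 fun z hz hzO => hz.elim (fun h => h.2 hzO)
          (fun h => hOT z hzO h.2)) (Set.toFinite _) (Set.toFinite _)]
      refine Set.ncard_le_ncard (Set.union_subset (Set.union_subset ?_ Set.inter_subset_left) hOS)
        (Set.toFinite _)
      exact fun z hz => hz.1.1
    have h2 : (E ∩ O).ncard ≤ 2 := by
      refine (Set.ncard_le_ncard (t := {z | z ∈ O ∧ x • z ∉ O ∧ x • z ≠ a} ∪ {x⁻¹ • a}) ?_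
        (Set.toFinite _)).trans ((Set.ncard_union_le _ _).trans (by rw [Set.ncard_singleton]; omega))
      rintro z ⟨⟨-, -, hzT⟩, hzO⟩
      by_cases hza : x • z = a
      · exact Or.inr (by rw [← hza, inv_smul_smul]; rfl)
      · exact Or.inl ⟨hzO, fun h => hOT _ h hzT, hza⟩
    have h3 := Set.ncard_inter_add_ncard_sdiff_eq_ncard E O (Set.toFinite _)
    omega
  refine ⟨c, ?_, ?_⟩
  · refine (Set.ncard_pos (Set.toFinite _)).2 ⟨a, ?_⟩
    rw [hcmem]
    have hbT : x • a ∉ T := hOT _ hbO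
    intro h
    rw [not_smul_mem_movedSet hbT] at h
    exact haT (smul_left_cancel x h)
  · omega

end Cfsg.Agent.Lib.Marggraf
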