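import Cfsg.Agent.Lib.Marggraf.Steiner
import Cfsg.Agent.Lib.Marggraf.Descent

/-!
Marggraf's theorem: a primitive group with a Jordan set of size at most half the degree is triply
transitive, and contains the alternating group when the size is less than half.
-/

set_option autoImplicit false

namespace Cfsg.Agent.Lib.Marggraf

open Pointwise

variable {G Ω : Type*} [Group G] [MulAction G Ω] [Finite Ω]

/-- Marggraf: triple transitivity. -/
theorem three_pretransitive {Γ : Set Ω} (hJ : IsJordanSet G Γ)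
    (hp : MulAction.IsPreprimitive G Ω) (h1 : 1 < Γ.ncard) (h2 : 2 * Γ.ncard ≤ Nat.card Ω) :
    MulAction.IsMultiplyPretransitive G Ω 3 := by
  classical
  set g := Γ.ncard with hg
  set n := Nat.card Ω with hn
  have hD : Γᶜ.ncard = n - g := Set.ncard_compl Γ
  have hk2 := hJ.two_pretransitive hp h1 (by omega)
  rcases succ_pretransitive_or_block hJ (j := 1) hk2 h1 (by omega) with h | h
  · exact h
  obtain ⟨s, B, hs, hBs, hB1, hBblock, u, hu, hdB, hdBs⟩ := h
  exfalso
  obtain ⟨a, rfl⟩ := Set.ncard_eq_one.1 hs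
  set r := B.ncard with hr
  have h2r : 2 * r + 1 ≤ n := by
    have h := Set.ncard_union_eq hdB (Set.toFinite _) (Set.toFinite _)
    have hsub : B ∪ u • B ⊆ ({a} : Set Ω)ᶜ :=
      Set.union_subset (Set.disjoint_left.1 hBs) (Set.disjoint_left.1 hdBs)
    have h' := Set.ncard_le_ncard hsub (Set.toFinite _)
    rw [h, Set.ncard_smul_set, Set.ncard_compl, Set.ncard_singleton] at h'
    omega
  obtain ⟨b, hbB, b', hb'B, hbb⟩ := (Set.one_lt_ncard (Set.toFinite B)).1 hB1
  have hab : a ≠ b := fun h => Set.disjoint_left.1 hBs hbB h.symm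
  have hab' : a ≠ b' := fun h => Set.disjoint_left.1 hBs hb'B h.symm
  have two : MulAction.IsMultiplyPretransitive G Ω 2 := hk2
  have pair : ∀ {x y x' y' : Ω}, x ≠ y → x' ≠ y' → ∃ m : G, m • x = x' ∧ m • y = y' :=
    fun hxy hxy' => MulAction.is_two_pretransitive_iff.1 hk2 hxy hxy'
  by_cases hgr : r < g
  · -- every pair has a third point in its closure
    have hbcl : b ∈ closureSet G Γ {a, b'} := by
      intro h hd hb
      rw [Set.disjoint_left] at hd
      rcases hJ.subset_or_subset_block hBblock (s := {a}) (h := h)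
        (Set.disjoint_left.2 fun z hz hza => hd hz (Or.inl hza)) ⟨b, hb, hbB⟩ with hsub | hsub
      · have := Set.ncard_le_ncard hsub (Set.toFinite _)
        rw [Set.ncard_smul_set] at this
        omega
      · exact hd (hsub hb'B) (Or.inr rfl)
    have extra : ∀ x p : Ω, x ≠ p → ∃ c, c ∈ closureSet G Γ {x, p} ∧ c ≠ x ∧ c ≠ p := by
      intro x p hxp
      obtain ⟨m, hma, hmb⟩ := pair hab' hxp
      refine ⟨m • b, ?_, fun h => hab (smul_left_cancel m (hma.trans h.symm)),
        fun h => hbb (smul_left_cancel m (h.trans hmb.symm))⟩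
      rw [← hma, ← hmb, ← Set.smul_set_singleton, ← Set.smul_set_insert, closureSet_smul]
      exact Set.smul_mem_smul_set hbcl
    obtain ⟨p, hp'⟩ : Γ.Nonempty := Set.nonempty_of_ncard_ne_zero (by omega)
    have heq : ∀ {x y z w : Ω}, x ≠ y → z ≠ w → ({z, w} : Set Ω) ⊆ closureSet G Γ {x, y} →
        closureSet G Γ {z, w} = closureSet G Γ {x, y} := fun hxy hzw h =>
      closureSet_eq_of_subset hk2 (by omega) (Set.ncard_pair hxy) (Set.ncard_pair hzw) h
    have hne : ∀ {x : Ω}, x ∈ Γᶜ → x ≠ p := fun hx h => hx (h ▸ hp')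
    have hclD : ∀ {x y : Ω}, x ∈ Γᶜ → y ∈ Γᶜ → p ∉ closureSet G Γ {x, y} := by
      intro x y hx hy h
      exact closureSet_subset_compl (Set.disjoint_left.2 fun z hz hzs => by
        rcases hzs with rfl | rfl
        · exact hx hz
        · exact hy hz) h hp'
    have honly : ∀ {x y : Ω}, x ∈ Γᶜ → y ∈ Γᶜ → y ∈ closureSet G Γ {x, p} → y = x := by
      intro x y hx hy h
      by_contra hyx
      refine hclD hx hy ?_
      rw [heq (hne hx) (Ne.symm hyx) (Set.insert_subset (subset_closureSet _ (Set.mem_insert _ _))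
        (Set.singleton_subset_iff.2 h))]
      exact subset_closureSet _ (Or.inr rfl)
    choose! f hf hfx hfp using fun x (hx : x ∈ Γᶜ) => extra x p (hne hx)
    have hinj : Set.InjOn f Γᶜ := by
      intro x hx y hy hxy
      have h : ∀ z ∈ Γᶜ, closureSet G Γ {f z, p} = closureSet G Γ {z, p} := fun z hz =>
        heq (hne hz) (hfp z hz) (Set.insert_subset (hf z hz)
          (Set.singleton_subset_iff.2 (subset_closureSet _ (Or.inr rfl))))
      refine (honly hx hy ?_).symm
      rw [← h x hx, hxy, h y hy]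
      exact subset_closureSet _ (Set.mem_insert _ _)
    have h3 := Set.ncard_le_ncard (s := f '' Γᶜ) (t := Γ \ {p}) (by
      rintro _ ⟨x, hx, rfl⟩
      refine ⟨?_, hfp x hx⟩
      by_contra h
      exact hfx x hx (honly hx h (hf x hx))) (Set.toFinite _)
    rw [Set.InjOn.ncard_image hinj, hD, Set.ncard_sdiff_singleton_of_mem hp', ← hg] at h3
    omega
  · -- every translate avoiding `a` lies in a class of `a`
    have hclass : ∀ (h : G) (z : Ω), z ∉ h • Γ → ∀ m : G, m • a = z →
        (h • Γ ∩ m • B).Nonempty → h • Γ ⊆ m • B := by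
      intro h z hz m hm hne
      rcases hJ.subset_or_subset_block hBblock (s := {a}) (h := m⁻¹ * h)
        (Set.disjoint_left.2 fun w hw hwa => hz (by
          rw [Set.mem_singleton_iff] at hwa
          rw [hwa, mul_smul, Set.mem_inv_smul_set_iff, hm] at hw
          exact hw)) (by
        obtain ⟨w, hw1, hw2⟩ := hne
        refine ⟨m⁻¹ • w, ?_, Set.mem_smul_set_iff_inv_smul_mem.1 hw2⟩
        rw [mul_smul]
        exact Set.smul_mem_smul_set hw1) with hsub | hsub
      · rw [mul_smul] at hsub
        intro w hw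
        exact Set.mem_smul_set_iff_inv_smul_mem.2 (hsub (Set.smul_mem_smul_set hw))
      · have heq : B = (m⁻¹ * h) • Γ := Set.eq_of_subset_of_ncard_le hsub
          (by rw [Set.ncard_smul_set]; omega) (Set.toFinite _)
        rw [heq, ← mul_smul, mul_inv_cancel_left]
    let S : Ω → Ω → Set Ω := fun x y => {z | ∃ m : G, m • a = z ∧ x ∈ m • B ∧ y ∈ m • B}
    have hSequiv : ∀ (u : G) (x y : Ω), S (u • x) (u • y) = u • S x y := by
      intro u x y
      ext z
      simp only [S, Set.mem_ofPred_eq, Set.mem_smul_set_iff_inv_smul_mem]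
      constructor
      · rintro ⟨m, hm, hx, hy⟩
        exact ⟨u⁻¹ * m, by rw [mul_smul, hm], by rwa [mul_inv_rev, inv_inv, mul_smul],
          by rwa [mul_inv_rev, inv_inv, mul_smul]⟩
      · rintro ⟨m, hm, hx, hy⟩
        exact ⟨u * m, by rw [mul_smul, hm, smul_inv_smul],
          by rwa [mul_inv_rev, mul_smul, inv_smul_smul],
          by rwa [mul_inv_rev, mul_smul, inv_smul_smul]⟩
    have hblk : ∀ (m m' : G) (w : Ω), m • a = m' • a → w ∈ m • B → w ∈ m' • B →
        m • B = m' • B := by
      intro m m' w hmm hw hw'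
      have hfix : m⁻¹ * m' ∈ fixingSubgroup G ({a} : Set Ω) := (mem_fixingSubgroup_iff G).2 fun z hz => by
        rw [Set.mem_singleton_iff] at hz
        rw [hz, mul_smul, ← hmm, inv_smul_smul]
      have hB' := hBblock _ hfix (m'⁻¹ • w) (Set.mem_smul_set_iff_inv_smul_mem.1 hw')
        (by rw [mul_smul, smul_inv_smul]; exact Set.mem_smul_set_iff_inv_smul_mem.1 hw)
      calc m • B = m • ((m⁻¹ * m') • B) := by rw [hB']
        _ = m' • B := by rw [← mul_smul, mul_inv_cancel_left]
    -- count the pairs `(x, y)` with a fixed point in a class of `x`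
    have hSb : (S b b').ncard ≤ r - 1 := by
      let Fb : Finset Ω := (Set.toFinite ({b}ᶜ : Set Ω)).toFinset
      have hmemF : ∀ z, z ∈ Fb ↔ z ≠ b := fun z => by simp [Fb]
      have hFc : Fb.card = n - 1 := by
        rw [← Set.ncard_eq_toFinset_card _ (Set.toFinite _), Set.ncard_compl, Set.ncard_singleton]
      have hconst : ∀ y ∈ Fb, (S b y).ncard = (S b b').ncard := by
        intro y hy
        obtain ⟨u, hu1, hu2⟩ := pair (x := b) (y := b') (x' := b) (y' := y) hbb
          (fun h => (hmemF y).1 hy h.symm)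
        rw [show S b y = S (u • b) (u • b') by rw [hu1, hu2], hSequiv, Set.ncard_smul_set]
      have hfil : ∀ y ∈ Fb, (S b y).ncard = (Fb.filter fun z => z ∈ S b y).card := by
        intro y _
        rw [← Set.ncard_coe_finset]
        congr 1
        ext z
        simp only [Finset.coe_filter, Set.mem_ofPred_eq, hmemF, iff_and_self]
        rintro ⟨m, hm, hbm, -⟩ rfl
        exact Set.disjoint_left.1 hBs (Set.mem_smul_set_iff_inv_smul_mem.1 hbm)
          (by rw [← hm, inv_smul_smul]; rfl)
      have hrow : ∀ z ∈ Fb, (Fb.filter fun y => z ∈ S b y).card ≤ r - 1 := by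
        intro z hz
        by_cases h : (Fb.filter fun y => z ∈ S b y).Nonempty
        · obtain ⟨y₀, hy₀⟩ := h
          obtain ⟨m, hm, hbm, -⟩ := (Finset.mem_filter.1 hy₀).2
          have hsub : ((Fb.filter fun y => z ∈ S b y : Finset Ω) : Set Ω) ⊆ (m • B) \ {b} := by
            intro y hy
            obtain ⟨hyF, m', hm', hbm', hym'⟩ := Finset.mem_filter.1 hy
            exact ⟨hblk m m' b (hm.trans hm'.symm) hbm hbm' ▸ hym', (hmemF y).1 hyF⟩
          have := Set.ncard_le_ncard hsub (Set.toFinite _)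
          rwa [Set.ncard_coe_finset, Set.ncard_sdiff_singleton_of_mem hbm,
            Set.ncard_smul_set] at this
        · rw [Finset.not_nonempty_iff_eq_empty.1 h]; simp
      have hsum : Fb.card * (S b b').ncard ≤ Fb.card * (r - 1) := by
        calc Fb.card * (S b b').ncard = ∑ y ∈ Fb, (Fb.filter fun z => z ∈ S b y).card := by
              rw [← smul_eq_mul, ← Finset.sum_const]
              refine Finset.sum_congr rfl fun y hy => ?_
              rw [← hfil y hy]
              exact (hconst y hy).symm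
          _ = ∑ z ∈ Fb, (Fb.filter fun y => z ∈ S b y).card := by
              simp only [Finset.card_filter]; exact Finset.sum_comm
          _ ≤ Fb.card * (r - 1) := by
              rw [← smul_eq_mul, ← Finset.sum_const]
              exact Finset.sum_le_sum hrow
      exact Nat.le_of_mul_le_mul_left hsum (by omega)
    obtain ⟨x, hx, y, hy, hxy⟩ := (Set.one_lt_ncard (Set.toFinite Γ)).1 h1
    obtain ⟨h, hhx, hhy⟩ := pair hxy hbb
    have hsub : (h • Γ)ᶜ ⊆ S b b' := by
      intro z hz
      have hbz : b ≠ z := fun e => hz (e ▸ hhx ▸ Set.smul_mem_smul_set hx)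
      obtain ⟨m, hma, hmb⟩ := pair hab hbz.symm
      have hbm : b ∈ m • B := ⟨b, hbB, hmb⟩
      have hsub := hclass h z hz m hma ⟨b, hhx ▸ Set.smul_mem_smul_set hx, hbm⟩
      exact ⟨m, hma, hbm, hsub (hhy ▸ Set.smul_mem_smul_set hy)⟩
    have hle := Set.ncard_le_ncard hsub (Set.toFinite _)
    rw [Set.ncard_compl, Set.ncard_smul_set] at hle
    omega

/-- In the tight case the degree of transitivity grows up to `k ≤ |Γ| / 2 + 3`. -/
theorem pretransitive_tight [FaithfulSMul G Ω] {Γ : Set Ω} (hJ : IsJordanSet G Γ)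
    (hn : Nat.card Ω = 2 * Γ.ncard + 1) (h4 : MulAction.IsMultiplyPretransitive G Ω 4)
    (hg : 1 < Γ.ncard) :
    ∀ k, 4 ≤ k → 2 * k ≤ Γ.ncard + 6 → MulAction.IsMultiplyPretransitive G Ω k := by
  intro k hk
  induction k, hk using Nat.le_induction with
  | base => exact fun _ => h4
  | succ k hk ih =>
    intro hkg
    have hk' := ih (by omega)
    obtain ⟨j, rfl⟩ : ∃ j, k = j + 1 := ⟨k - 1, by omega⟩
    rcases succ_pretransitive_or_block hJ hk' hg (by omega) with h | h
    · exact h
    exfalso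
    obtain ⟨s, B, hs, hBs, hB1, hBblock, u, -, hdB, hdBs⟩ := h
    have hgr : B.ncard < Γ.ncard := by
      have h := Set.ncard_union_eq hdB (Set.toFinite _) (Set.toFinite _)
      have hsub : B ∪ u • B ⊆ sᶜ :=
        Set.union_subset (Set.disjoint_left.1 hBs) (Set.disjoint_left.1 hdBs)
      have h' := Set.ncard_le_ncard hsub (Set.toFinite _)
      rw [h, Set.ncard_smul_set, Set.ncard_compl, hs] at h'
      omega
    obtain ⟨b, hbB, b', hb'B, hbb⟩ := (Set.one_lt_ncard (Set.toFinite B)).1 hB1
    have hb's : b' ∉ s := Set.disjoint_left.1 hBs hb'B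
    have hK : (insert b' s).ncard = j + 1 := by rw [Set.ncard_insert_of_notMem hb's, hs]
    obtain ⟨t, ht, hcl⟩ := exists_closureSet_eq hJ hn hk' (by omega) (by omega)
    obtain ⟨m, hm⟩ := exists_smul_set_eq hk' (ht.trans hK.symm) ht.le (by omega)
    have hbcl : b ∈ closureSet G Γ (insert b' s) := by
      intro h hd hb
      rw [Set.disjoint_left] at hd
      rcases hJ.subset_or_subset_block hBblock (s := s) (h := h)
        (Set.disjoint_left.2 fun z hz hzs => hd hz (Set.mem_insert_of_mem _ hzs)) ⟨b, hb, hbB⟩ with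
        hsub | hsub
      · have := Set.ncard_le_ncard hsub (Set.toFinite _)
        rw [Set.ncard_smul_set] at this
        omega
      · exact hd (hsub hb'B) (Set.mem_insert _ _)
    rw [← hm, closureSet_smul, hcl, hm] at hbcl
    rcases hbcl with h | h
    · exact hbb h
    · exact Set.disjoint_left.1 hBs hbB h

/-- The group has an element moving two or three points, in the tight case. -/
theorem exists_movedSet_le_three [FaithfulSMul G Ω] {Γ : Set Ω} (hJ : IsJordanSet G Γ)
    (hn : Nat.card Ω = 2 * Γ.ncard + 1) (h4 : MulAction.IsMultiplyPretransitive G Ω 4)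
    (hg : 1 < Γ.ncard) :
    ∃ c : G, 0 < (movedSet (Ω := Ω) c).ncard ∧ (movedSet (Ω := Ω) c).ncard ≤ 3 := by
  classical
  obtain ⟨p, hp, q, hq, hpq⟩ := (Set.one_lt_ncard (Set.toFinite Γ)).1 hg
  obtain ⟨j, hj, hjp⟩ := hJ p hp q hq
  have hP : ∃ m, ∃ c : G, 0 < (movedSet (Ω := Ω) c).ncard ∧ (movedSet (Ω := Ω) c).ncard = m :=
    ⟨_, j, (Set.ncard_pos (Set.toFinite _)).2 ⟨p, show j • p ≠ p by rw [hjp]; exact Ne.symm hpq⟩, rfl⟩
  obtain ⟨c, hc, hcm⟩ := Nat.find_spec hP
  refine ⟨c, hc, ?_⟩
  by_contra h3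
  have hmg : (movedSet (Ω := Ω) c).ncard ≤ Γ.ncard := by
    refine hcm ▸ (Nat.find_min' hP ⟨j, (Set.ncard_pos (Set.toFinite _)).2
      ⟨p, show j • p ≠ p by rw [hjp]; exact Ne.symm hpq⟩, rfl⟩).trans
      (Set.ncard_le_ncard (fun z hz => ?_) (Set.toFinite _))
    by_contra hzΓ
    exact hz (hj z hzΓ)
  obtain ⟨d, hd, hdlt⟩ := exists_smaller_movedSet
    (pretransitive_tight hJ hn h4 hg ((Γ.ncard + 6) / 2) (by omega) (by omega)) c
    (by omega) (by omega) (by omega) (by omega)
  have := Nat.find_min' hP ⟨d, hd, rfl⟩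
  omega

end Cfsg.Agent.Lib.Marggraf
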