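import Cfsg.Agent.Lib.Marggraf.Closure

/-!
Raising the degree of transitivity in the tight case `|Ω| = 2|Γ| + 1`: if every `k` points had a
further point in their closure, the closures would form a Steiner system which cannot exist.
-/

set_option autoImplicit false

namespace Cfsg.Agent.Lib.Marggraf

open Pointwise

variable {G Ω : Type*} [Group G] [MulAction G Ω] [FaithfulSMul G Ω] [Finite Ω] {Γ : Set Ω}

/-- In the tight case some `k` points are closed, if `4 ≤ k` and `2 k ≤ |Γ| + 4`. -/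
theorem exists_closureSet_eq (hJ : IsJordanSet G Γ) (hn : Nat.card Ω = 2 * Γ.ncard + 1) {k : ℕ}
    (hk : MulAction.IsMultiplyPretransitive G Ω k) (h4 : 4 ≤ k) (hkg : 2 * k ≤ Γ.ncard + 4) :
    ∃ s : Set Ω, s.ncard = k ∧ closureSet G Γ s = s := by
  classical
  by_contra hcon
  push Not at hcon
  have hkn : k ≤ Nat.card Ω := by omega
  set g := Γ.ncard with hg
  have hD : Γᶜ.ncard = g + 1 := by have := Set.ncard_add_ncard_compl Γ; omega
  -- every `k`-set has a further point in its closure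
  have extra : ∀ s : Set Ω, s.ncard = k → ∃ c, c ∈ closureSet G Γ s ∧ c ∉ s := fun s hs =>
    Set.not_subset.1 fun h => hcon s hs (h.antisymm (subset_closureSet s))
  -- `k` points outside `Γ` span nothing inside `Γ`
  have hDD : ∀ s : Set Ω, s ⊆ Γᶜ → ∀ c ∈ closureSet G Γ s, c ∉ Γ := fun s hs c hc =>
    closureSet_subset_compl (Set.disjoint_left.2 fun z hz hzs => hs hzs hz) hc
  have heq : ∀ s t : Set Ω, s.ncard = k → t.ncard = k → t ⊆ closureSet G Γ s →
      closureSet G Γ t = closureSet G Γ s := fun s t hs ht h =>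
    closureSet_eq_of_subset hk hkn hs ht h
  -- constant size
  obtain ⟨s₀, -, hs₀⟩ := Set.exists_subset_card_eq (s := (Set.univ : Set Ω)) (n := k)
    (by rw [Set.ncard_univ]; exact hkn)
  have hsize : ∀ s t : Set Ω, s.ncard = k → t.ncard = k →
      (closureSet G Γ s).ncard = (closureSet G Γ t).ncard := fun s t hs ht => by
    obtain ⟨x, hx⟩ := exists_smul_set_eq hk (hs.trans ht.symm) hs.le hkn
    rw [← hx, closureSet_smul, Set.ncard_smul_set]
  -- the sets `insert x (insert p A)` with `A` a set of `k - 2` points outside `Γ`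
  have card2 : ∀ (A : Set Ω) (x p : Ω), A.ncard + 2 = k → x ∉ A → p ∉ A → x ≠ p →
      (insert x (insert p A)).ncard = k := by
    intro A x p hA hx hp hxp
    rw [Set.ncard_insert_of_notMem (by simp [hx, hxp]), Set.ncard_insert_of_notMem hp]
    omega
  -- the only point outside `Γ` beside `A`
  have honly : ∀ (A : Set Ω) (x p y : Ω), A.ncard + 2 = k → A ⊆ Γᶜ → x ∈ Γᶜ → x ∉ A → p ∈ Γ →
      y ∈ closureSet G Γ (insert x (insert p A)) → y ∈ Γᶜ → y ∈ A ∨ y = x := by
    intro A x p y hA hAD hx hxA hp hy hyD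
    by_contra h
    simp only [not_or] at h
    have hpA : p ∉ A := fun h' => hAD h' hp
    have hxp : x ≠ p := fun h' => hx (h' ▸ hp)
    have hs := card2 A x p hA hxA hpA hxp
    have hsub : insert x (insert y A) ⊆ closureSet G Γ (insert x (insert p A)) :=
      Set.insert_subset (subset_closureSet _ (Set.mem_insert _ _))
        (Set.insert_subset hy fun z hz => subset_closureSet _ (by simp [hz]))
    have he := heq _ _ hs (card2 A x y hA hxA h.1 (Ne.symm h.2)) hsub
    refine hDD _ (Set.insert_subset hx (Set.insert_subset hyD hAD)) p ?_ hp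
    rw [he]
    exact subset_closureSet _ (by simp)
  -- the further points
  let Q : Set Ω → Ω → Ω → Set Ω := fun A p x =>
    closureSet G Γ (insert x (insert p A)) \ insert x (insert p A)
  have hQΓ : ∀ (A : Set Ω) (x p : Ω), A.ncard + 2 = k → A ⊆ Γᶜ → x ∈ Γᶜ → x ∉ A → p ∈ Γ →
      Q A p x ⊆ Γ \ {p} := by
    rintro A x p hA hAD hx hxA hp z ⟨hz, hzs⟩
    simp only [Set.mem_insert_iff, not_or] at hzs
    refine ⟨?_, hzs.2.1⟩
    by_contra hzD
    rcases honly A x p z hA hAD hx hxA hp hz hzD with h | h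
    · exact hzs.2.2 h
    · exact hzs.1 h
  have hQdisj : ∀ (A : Set Ω) (x y p z : Ω), A.ncard + 2 = k → A ⊆ Γᶜ → x ∈ Γᶜ → x ∉ A →
      y ∈ Γᶜ → y ∉ A → p ∈ Γ → z ∈ Q A p x → z ∈ Q A p y → x = y := by
    intro A x y p z hA hAD hx hxA hy hyA hp hzx hzy
    by_contra hxy
    have hpA : p ∉ A := fun h' => hAD h' hp
    have hzp := hQΓ A x p hA hAD hx hxA hp hzx
    have hzA : z ∉ A := fun h' => hAD h' hzp.1
    have hK : (insert z (insert p A)).ncard = k := card2 A z p hA hzA hpA hzp.2
    have hsub : ∀ w, z ∈ Q A p w →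
        insert z (insert p A) ⊆ closureSet G Γ (insert w (insert p A)) := fun w hw =>
      Set.insert_subset hw.1 fun v hv => subset_closureSet _ (Set.subset_insert _ _ hv)
    have e := (heq _ _ (card2 A x p hA hxA hpA fun h' => hx (h' ▸ hp)) hK (hsub x hzx)).symm.trans
      (heq _ _ (card2 A y p hA hyA hpA fun h' => hy (h' ▸ hp)) hK (hsub y hzy))
    rcases honly A x p y hA hAD hx hxA hp (by rw [e]; exact subset_closureSet _ (by simp)) hy with
      h | h
    · exact hyA h
    · exact hxy h.symm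
  let C : Set Ω → Ω → Set Ω := fun A p => {z | ∃ x ∈ Γᶜ \ A, z ∈ Q A p x}
  have hCΓ : ∀ (A : Set Ω) (p : Ω), A.ncard + 2 = k → A ⊆ Γᶜ → p ∈ Γ → C A p ⊆ Γ \ {p} := by
    rintro A p hA hAD hp z ⟨x, hx, hz⟩
    exact hQΓ A x p hA hAD hx.1 hx.2 hp hz
  -- `C A p` has as many points as there are points outside `Γ` and `A`
  set l := (closureSet G Γ s₀).ncard - k with hl
  have hQcard : ∀ (A : Set Ω) (x p : Ω), A.ncard + 2 = k → A ⊆ Γᶜ → x ∈ Γᶜ → x ∉ A → p ∈ Γ →
      (Q A p x).ncard = l := by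
    intro A x p hA hAD hx hxA hp
    have hs := card2 A x p hA hxA (fun h' => hAD h' hp) (fun h' => hx (h' ▸ hp))
    simp only [Q]
    rw [Set.ncard_sdiff (subset_closureSet _) (Set.toFinite _), hsize _ _ hs hs₀, hs]
  have hl1 : 1 ≤ l := by
    obtain ⟨c, hc, hc'⟩ := extra s₀ hs₀
    have h1 : (insert c s₀).ncard ≤ (closureSet G Γ s₀).ncard :=
      Set.ncard_le_ncard (Set.insert_subset hc (subset_closureSet _)) (Set.toFinite _)
    rw [Set.ncard_insert_of_notMem hc', hs₀] at h1
    omega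
  have hCcard : ∀ (A : Set Ω) (p : Ω), A.ncard + 2 = k → A ⊆ Γᶜ → p ∈ Γ →
      (C A p).ncard = (g + 1 - A.ncard) * l := by
    intro A p hA hAD hp
    have : C A p = ⋃ x ∈ (Γᶜ \ A), Q A p x := by ext z; simp [C]
    rw [this, (Set.toFinite _).ncard_biUnion (fun _ _ => Set.toFinite _) (by
      intro x hx y hy hxy
      rw [Function.onFun, Set.disjoint_left]
      exact fun z hzx hzy => hxy (hQdisj A x y p z hA hAD hx.1 hx.2 hy.1 hy.2 hp hzx hzy))]
    rw [finsum_mem_eq_finite_toFinset_sum _ (Set.toFinite _),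
      Finset.sum_congr rfl (g := fun _ => l) (fun x hx => by
        simp only [Set.Finite.mem_toFinset] at hx
        exact hQcard A x p hA hAD hx.1 hx.2 hp),
      Finset.sum_const, smul_eq_mul, ← Set.ncard_eq_toFinset_card _ (Set.toFinite _),
      Set.ncard_sdiff hAD (Set.toFinite _), hD]
  obtain ⟨p₀, hp₀⟩ : Γ.Nonempty := Set.nonempty_of_ncard_ne_zero (by omega)
  obtain ⟨A₀, hA₀D, hA₀c⟩ := Set.exists_subset_card_eq (s := Γᶜ) (n := k - 2) (by omega)
  have hA₀ : A₀.ncard + 2 = k := by omega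
  -- the closures have exactly `k + 1` points
  have hl : l = 1 := by
    by_contra h
    have h1 := Set.ncard_le_ncard (hCΓ A₀ p₀ hA₀ hA₀D hp₀) (Set.toFinite _)
    rw [hCcard A₀ p₀ hA₀ hA₀D hp₀, Set.ncard_sdiff_singleton_of_mem hp₀, ← hg, hA₀c] at h1
    have : (g + 1 - (k - 2)) * 2 ≤ (g + 1 - (k - 2)) * l := Nat.mul_le_mul_left _ (by omega)
    omega
  rw [hl] at hQcard hCcard
  have hLcard : ∀ s : Set Ω, s.ncard = k → (closureSet G Γ s).ncard = k + 1 := by
    intro s hs
    rw [hsize s s₀ hs hs₀]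
    omega
  have uniq : ∀ (A : Set Ω) (x p y z : Ω), A.ncard + 2 = k → A ⊆ Γᶜ → x ∈ Γᶜ → x ∉ A → p ∈ Γ →
      y ∈ Q A p x → z ∈ Q A p x → y = z := by
    intro A x p y z hA hAD hx hxA hp hy hz
    exact (Set.ncard_le_one (Set.toFinite _)).1 (hQcard A x p hA hAD hx hxA hp).le y hy z hz
  -- elements fixing the complement of `Γ` permute the closures through it
  have hmap : ∀ (j : G), (∀ z ∉ Γ, j • z = z) → ∀ (s : Set Ω) (z : Ω),
      z ∈ closureSet G Γ s → j • z ∈ closureSet G Γ (j • s) := fun j _ s z hz => by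
    rw [closureSet_smul]; exact Set.smul_mem_smul_set hz
  have hfixA : ∀ (j : G), (∀ z ∉ Γ, j • z = z) → ∀ A : Set Ω, A ⊆ Γᶜ → j • A = A := by
    intro j hj A hA
    ext z
    constructor
    · rintro ⟨w, hw, rfl⟩
      show j • w ∈ A
      rwa [hj w (hA hw)]
    · exact fun hz => ⟨z, hz, hj z (hA hz)⟩
  have hmapQ : ∀ (j : G), (∀ z ∉ Γ, j • z = z) → ∀ (A : Set Ω) (x p z : Ω), A ⊆ Γᶜ → x ∈ Γᶜ →
      z ∈ Q A p x → j • z ∈ Q A (j • p) x := by
    intro j hj A x p z hA hx hz
    have e : j • insert x (insert p A) = insert x (insert (j • p) A) := by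
      rw [Set.smul_set_insert, Set.smul_set_insert, hj x hx, hfixA j hj A hA]
    refine ⟨e ▸ hmap j hj _ z hz.1, ?_⟩
    rw [← e, Set.smul_mem_smul_set_iff]
    exact hz.2
  -- symmetry
  have hsym : ∀ (A : Set Ω) (x p z : Ω), A.ncard + 2 = k → A ⊆ Γᶜ → x ∈ Γᶜ → x ∉ A → p ∈ Γ →
      z ∈ Q A p x → p ∈ Q A z x := by
    intro A x p z hA hAD hx hxA hp hz
    have hzp := hQΓ A x p hA hAD hx hxA hp hz
    have hsub : insert x (insert z A) ⊆ closureSet G Γ (insert x (insert p A)) :=
      Set.insert_subset (subset_closureSet _ (Set.mem_insert _ _))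
        (Set.insert_subset hz.1 fun v hv => subset_closureSet _ (by simp [hv]))
    refine ⟨?_, ?_⟩
    · rw [heq _ _ (card2 A x p hA hxA (fun h' => hAD h' hp) fun h' => hx (h' ▸ hp))
        (card2 A x z hA hxA (fun h' => hAD h' hzp.1) fun h' => hx (h' ▸ hzp.1)) hsub]
      exact subset_closureSet _ (by simp)
    · simp only [Set.mem_insert_iff, not_or]
      exact ⟨fun h' => hx (h' ▸ hp), Ne.symm hzp.2, fun h' => hAD h' hp⟩
  -- `Γ` is semiregular: the stabilisers inside `Γ` agree
  have hJp : ∀ (p z : Ω), p ∈ Γ → z ∈ C A₀ p → ∀ (j : G), (∀ w ∉ Γ, j • w = w) →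
      (j • p = p → j • z = z) ∧ (j • z = z → j • p = p) := by
    rintro p z hp ⟨x, hx, hz⟩ j hj
    have hzp := hQΓ A₀ x p hA₀ hA₀D hx.1 hx.2 hp hz
    refine ⟨fun h => ?_, fun h => ?_⟩
    · have h' := hmapQ j hj A₀ x p z hA₀D hx.1 hz
      rw [h] at h'
      exact uniq A₀ x p _ _ hA₀ hA₀D hx.1 hx.2 hp h' hz
    · have hz' := hsym A₀ x p z hA₀ hA₀D hx.1 hx.2 hp hz
      have h' := hmapQ j hj A₀ x z p hA₀D hx.1 hz'
      rw [h] at h'
      exact uniq A₀ x z _ _ hA₀ hA₀D hx.1 hx.2 hzp.1 h' hz'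
  have semireg : ∀ p ∈ Γ, ∀ j : G, (∀ w ∉ Γ, j • w = w) → j • p = p → j = 1 := by
    intro p hp j hj hjp
    refine eq_of_smul_eq_smul (α := Ω) fun w => ?_
    rw [one_smul]
    by_cases hw : w ∈ Γ
    swap
    · exact hj w hw
    have hcard : ∀ q ∈ Γ, (insert q (C A₀ q)).ncard = g + 1 - (k - 2) + 1 := fun q hq => by
      rw [Set.ncard_insert_of_notMem (fun h => (hCΓ A₀ q hA₀ hA₀D hq h).2 rfl),
        hCcard A₀ q hA₀ hA₀D hq, hA₀c, mul_one]
    have hne : (insert p (C A₀ p) ∩ insert w (C A₀ w)).Nonempty := by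
      by_contra h
      rw [Set.not_nonempty_iff_eq_empty, ← Set.disjoint_iff_inter_eq_empty] at h
      have h1 := Set.ncard_union_eq h (Set.toFinite _) (Set.toFinite _)
      have h2 : (insert p (C A₀ p) ∪ insert w (C A₀ w)).ncard ≤ g :=
        Set.ncard_le_ncard (Set.union_subset
          (Set.insert_subset hp fun z hz => (hCΓ A₀ p hA₀ hA₀D hp hz).1)
          (Set.insert_subset hw fun z hz => (hCΓ A₀ w hA₀ hA₀D hw hz).1)) (Set.toFinite _)
      rw [h1, hcard p hp, hcard w hw] at h2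
      omega
    obtain ⟨z, hzp, hzw⟩ := hne
    have hjz : j • z = z := by
      rcases hzp with rfl | hzp
      · exact hjp
      · exact (hJp p z hp hzp j hj).1 hjp
    rcases hzw with rfl | hzw
    · exact hjz
    · exact (hJp w z hw hzw j hj).2 hjz
  -- covered points are reached by involutions, the others are not
  have hcov : ∀ (A : Set Ω) (p q : Ω), A.ncard + 2 = k → A ⊆ Γᶜ → p ∈ Γ → q ∈ Γ → p ≠ q →
      ∀ j : G, (∀ w ∉ Γ, j • w = w) → j • p = q → (q ∈ C A p ↔ j • q = p) := by
    intro A p q hA hAD hp hq hpq j hj hjpq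
    constructor
    · rintro ⟨x, ⟨hx, hxA⟩, hqQ⟩
      have h1 := hsym A x p q hA hAD hx hxA hp hqQ
      have h2 := hmapQ j hj A x p q hAD hx hqQ
      rw [hjpq] at h2
      exact uniq A x q _ _ hA hAD hx hxA hq h2 h1
    · intro hjq
      have hqA : q ∉ A := fun h => hAD h hq
      have hpA : p ∉ A := fun h => hAD h hp
      have hs := card2 A q p hA hqA hpA (Ne.symm hpq)
      obtain ⟨r, hr, hrs⟩ := extra _ hs
      simp only [Set.mem_insert_iff, not_or] at hrs
      by_cases hrΓ : r ∈ Γ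
      · exfalso
        have e : j • insert q (insert p A) = insert q (insert p A) := by
          rw [Set.smul_set_insert, Set.smul_set_insert, hjpq, hjq, hfixA j hj A hAD, Set.insert_comm]
        have hjr : j • r ∈ closureSet G Γ (insert q (insert p A)) := e ▸ hmap j hj _ r hr
        have hone : (closureSet G Γ (insert q (insert p A)) \ insert q (insert p A)).ncard ≤ 1 := by
          rw [Set.ncard_sdiff (subset_closureSet _) (Set.toFinite _), hLcard _ hs, hs]
          omega
        have hjr' : j • r ∉ insert q (insert p A) := by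
          rw [← e, Set.smul_mem_smul_set_iff]
          simp [hrs]
        have hfix := (Set.ncard_le_one (Set.toFinite _)).1 hone _ ⟨hjr, hjr'⟩ _ ⟨hr, by simp [hrs]⟩
        have hj1 := semireg r hrΓ j hj hfix
        exact hpq (by rw [← hjpq, hj1, one_smul])
      · refine ⟨r, ⟨hrΓ, hrs.2.2⟩, ?_, ?_⟩
        · have hsub : insert r (insert p A) ⊆ closureSet G Γ (insert q (insert p A)) :=
            Set.insert_subset hr fun v hv => subset_closureSet _ (Set.subset_insert _ _ hv)
          rw [heq _ _ hs (card2 A r p hA hrs.2.2 hpA fun h => hrΓ (h ▸ hp)) hsub]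
          exact subset_closureSet _ (Set.mem_insert _ _)
        · simp only [Set.mem_insert_iff, not_or]
          exact ⟨fun h => hrΓ (h ▸ hq), Ne.symm hpq, hqA⟩
  by_cases hk4 : k = 4
  · -- every point of `Γ` is covered, so no line can have three points in `Γ`
    subst hk4
    have hall : ∀ (A : Set Ω) (p : Ω), A.ncard + 2 = 4 → A ⊆ Γᶜ → p ∈ Γ → C A p = Γ \ {p} := by
      intro A p hA hAD hp
      refine Set.eq_of_subset_of_ncard_le (hCΓ A p hA hAD hp) ?_ (Set.toFinite _)
      rw [hCcard A p hA hAD hp, Set.ncard_sdiff_singleton_of_mem hp, ← hg]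
      omega
    obtain ⟨T, hTΓ, hTc⟩ := Set.exists_subset_card_eq (s := Γ) (n := 3) (by omega)
    obtain ⟨p, q, r, hpq, hpr, hqr, rfl⟩ := Set.ncard_eq_three.1 hTc
    simp only [Set.insert_subset_iff, Set.singleton_subset_iff] at hTΓ
    obtain ⟨hp, hq, hr⟩ := hTΓ
    have hfour : ∀ a ∈ Γᶜ, (({a, p, q, r} : Set Ω)).ncard = 4 := by
      intro a ha
      rw [Set.ncard_insert_of_notMem (by
        simp only [Set.mem_insert_iff, Set.mem_singleton_iff, not_or]
        exact ⟨fun h => ha (h ▸ hp), fun h => ha (h ▸ hq), fun h => ha (h ▸ hr)⟩), hTc]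
    choose w hw hws using fun a : ↥Γᶜ => extra _ (hfour a a.2)
    have hwΓ : ∀ a : ↥Γᶜ, w a ∈ Γ := by
      intro a
      by_contra hwD
      have hne : (a : Ω) ≠ w a := fun h => hws a (by simp [← h])
      set A : Set Ω := {(a : Ω), w a} with hAdef
      have hA : A.ncard + 2 = 4 := by rw [hAdef, Set.ncard_pair hne]
      have hAD : A ⊆ Γᶜ := Set.insert_subset a.2 (Set.singleton_subset_iff.2 hwD)
      obtain ⟨x, ⟨hx, hxA⟩, hqQ⟩ : q ∈ C A p := by rw [hall A p hA hAD hp]; exact ⟨hq, Ne.symm hpq⟩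
      have hqA : q ∉ A := fun h => hAD h hq
      have hpA : p ∉ A := fun h => hAD h hp
      have hK := card2 A q p hA hqA hpA (Ne.symm hpq)
      have hxs := card2 A x p hA hxA hpA fun h => hx (h ▸ hp)
      have e1 := heq _ (insert q (insert p A)) (hfour a a.2) hK
        (Set.insert_subset (subset_closureSet _ (by simp))
          (Set.insert_subset (subset_closureSet _ (by simp))
            (Set.insert_subset (subset_closureSet _ (by simp)) (Set.singleton_subset_iff.2 (hw a)))))
      have e2 := heq _ (insert q (insert p A)) hxs hK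
        (Set.insert_subset hqQ.1 fun v hv => subset_closureSet _ (Set.subset_insert _ _ hv))
      have hrQ : r ∈ Q A p x := by
        refine ⟨by rw [← e2, e1]; exact subset_closureSet _ (by simp), ?_⟩
        simp only [Set.mem_insert_iff, not_or]
        exact ⟨fun h => hx (h ▸ hr), Ne.symm hpr, fun h => hAD h hr⟩
      exact hqr (uniq A x p q r hA hAD hx hxA hp hqQ hrQ)
    have hinj : Function.Injective w := by
      intro a b hab
      by_contra hne
      have hne' : (a : Ω) ≠ b := fun h => hne (Subtype.ext h)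
      have hws' := hws a
      simp only [Set.mem_insert_iff, Set.mem_singleton_iff, not_or] at hws'
      have hK : ({w a, p, q, r} : Set Ω).ncard = 4 := by
        rw [Set.ncard_insert_of_notMem (by simp [hws'.2.1, hws'.2.2.1, hws'.2.2.2]), hTc]
      have hsub : ∀ c : ↥Γᶜ, w c = w a →
          ({w a, p, q, r} : Set Ω) ⊆ closureSet G Γ {(c : Ω), p, q, r} := fun c hc =>
        Set.insert_subset (hc ▸ hw c) fun v hv => subset_closureSet _ (Set.subset_insert _ _ hv)
      have e := (heq _ _ (hfour a a.2) hK (hsub a rfl)).symm.trans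
        (heq _ _ (hfour b b.2) hK (hsub b hab.symm))
      -- six points in a closure of five
      have hsix : ({(b : Ω), w a, (a : Ω), p, q, r} : Set Ω) ⊆ closureSet G Γ {(a : Ω), p, q, r} :=
        Set.insert_subset (by rw [e]; exact subset_closureSet _ (Set.mem_insert _ _))
          (Set.insert_subset (hw a) (subset_closureSet _))
      have h6 := Set.ncard_le_ncard hsix (Set.toFinite _)
      rw [hLcard _ (hfour a a.2), Set.ncard_insert_of_notMem, Set.ncard_insert_of_notMem (hws a),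
        hfour a a.2] at h6
      · omega
      · have hb : ∀ z ∈ Γ, (b : Ω) ≠ z := fun z hz h => b.2 (h ▸ hz)
        simp only [Set.mem_insert_iff, Set.mem_singleton_iff, not_or]
        exact ⟨hb _ (hwΓ a), Ne.symm hne', hb p hp, hb q hq, hb r hr⟩
    have hrange : Set.range w ⊆ Γ \ {p, q, r} := by
      rintro _ ⟨a, rfl⟩
      exact ⟨hwΓ a, fun h => hws a (Set.mem_insert_of_mem _ h)⟩
    have h1 := Set.ncard_le_ncard hrange (Set.toFinite _)
    rw [Set.ncard_range_of_injective hinj, Set.ncard_sdiff (by simp [Set.insert_subset_iff, hp, hq, hr])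
      (Set.toFinite _), hTc, Nat.card_coe_set_eq, hD, ← hg] at h1
    omega
  · -- a point not covered by an involution gives too many partners
    obtain ⟨q, hq, hqC⟩ : ∃ q, q ∈ Γ \ {p₀} ∧ q ∉ C A₀ p₀ := by
      by_contra h
      push Not at h
      have h1 := Set.ncard_le_ncard h (Set.toFinite _)
      rw [hCcard A₀ p₀ hA₀ hA₀D hp₀, Set.ncard_sdiff_singleton_of_mem hp₀, ← hg] at h1
      omega
    obtain ⟨j, hj, hjpq⟩ := hJ p₀ hp₀ q hq.1
    have hninv : ¬ j • q = p₀ :=
      fun h => hqC ((hcov A₀ p₀ q hA₀ hA₀D hp₀ hq.1 (Ne.symm hq.2) j hj hjpq).2 h)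
    obtain ⟨B₀, hB₀D, hB₀c⟩ := Set.exists_subset_card_eq (s := Γᶜ) (n := k - 3) (by omega)
    -- all partners of `q` avoid the covered points
    have hr : ∀ y ∈ Γᶜ \ B₀, ∃ r, r ∈ closureSet G Γ (insert q (insert p₀ (insert y B₀))) ∧
        r ∈ Γ \ ({p₀, q} ∪ C A₀ p₀) := by
      rintro y ⟨hy, hyB⟩
      set A := insert y B₀ with hAdef
      have hA : A.ncard + 2 = k := by rw [hAdef, Set.ncard_insert_of_notMem hyB]; omega
      have hAD : A ⊆ Γᶜ := Set.insert_subset hy hB₀D
      have hqC' : q ∉ C A p₀ :=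
        fun h => hninv ((hcov A p₀ q hA hAD hp₀ hq.1 (Ne.symm hq.2) j hj hjpq).1 h)
      have hqA : q ∉ A := fun h => hAD h hq.1
      have hpA : p₀ ∉ A := fun h => hAD h hp₀
      have hK := card2 A q p₀ hA hqA hpA hq.2
      obtain ⟨r, hr, hrs⟩ := extra _ hK
      simp only [Set.mem_insert_iff, not_or] at hrs
      refine ⟨r, hr, ?_, ?_⟩
      · by_contra hrΓ
        refine hqC' ⟨r, ⟨hrΓ, hrs.2.2⟩, ?_, ?_⟩
        · rw [heq _ _ hK (card2 A r p₀ hA hrs.2.2 hpA fun h => hrΓ (h ▸ hp₀))
            (Set.insert_subset hr fun v hv => subset_closureSet _ (Set.subset_insert _ _ hv))]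
          exact subset_closureSet _ (Set.mem_insert _ _)
        · simp only [Set.mem_insert_iff, not_or]
          exact ⟨fun h => hrΓ (h ▸ hq.1), hq.2, hqA⟩
      · rintro ((h | h) | hrC)
        · exact hrs.2.1 h
        · exact hrs.1 h
        · have hrp := hCΓ A₀ p₀ hA₀ hA₀D hp₀ hrC
          obtain ⟨i, hi, hipr⟩ := hJ p₀ hp₀ r hrp.1
          obtain ⟨x, hx, hrQ⟩ := (hcov A p₀ r hA hAD hp₀ hrp.1 (Ne.symm hrp.2) i hi hipr).2
            ((hcov A₀ p₀ r hA₀ hA₀D hp₀ hrp.1 (Ne.symm hrp.2) i hi hipr).1 hrC)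
          refine hqC' ⟨x, hx, ?_, ?_⟩
          · have hKr := card2 A r p₀ hA (fun h => hAD h hrp.1) hpA hrp.2
            rw [← heq _ _ (card2 A x p₀ hA hx.2 hpA fun h => hx.1 (h ▸ hp₀)) hKr
                (Set.insert_subset hrQ.1 fun v hv => subset_closureSet _ (Set.subset_insert _ _ hv)),
              heq _ _ hK hKr
                (Set.insert_subset hr fun v hv => subset_closureSet _ (Set.subset_insert _ _ hv))]
            exact subset_closureSet _ (Set.mem_insert _ _)
          · simp only [Set.mem_insert_iff, not_or]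
            exact ⟨fun h => hx.1 (h ▸ hq.1), hq.2, hqA⟩
    choose! r hr hrmem using hr
    have hinj : Set.InjOn r (Γᶜ \ B₀) := by
      rintro y ⟨hy, hyB⟩ y' ⟨hy', hyB'⟩ hyy
      by_contra hne
      have hry := hrmem y ⟨hy, hyB⟩
      have hpB : p₀ ∉ B₀ := fun h => hB₀D h hp₀
      have hqB : q ∉ B₀ := fun h => hB₀D h hq.1
      have hrB : r y ∉ B₀ := fun h => hB₀D h hry.1
      have hrp : r y ≠ p₀ := fun h => hry.2 (Or.inl (Or.inl h))
      have hrq : r y ≠ q := fun h => hry.2 (Or.inl (Or.inr h))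
      have hS : (insert (r y) (insert q (insert p₀ B₀))).ncard = k := by
        rw [Set.ncard_insert_of_notMem (by simp [hrq, hrp, hrB]),
          Set.ncard_insert_of_notMem (by simp [(show q ≠ p₀ from hq.2), hqB]), Set.ncard_insert_of_notMem hpB]
        omega
      have hkcard : ∀ z ∈ Γᶜ, z ∉ B₀ → (insert q (insert p₀ (insert z B₀))).ncard = k := by
        intro z hz hzB
        refine card2 _ q p₀ (by rw [Set.ncard_insert_of_notMem hzB]; omega) ?_ ?_ hq.2
        · simp only [Set.mem_insert_iff, not_or]; exact ⟨fun h => hz (h ▸ hq.1), hqB⟩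
        · simp only [Set.mem_insert_iff, not_or]; exact ⟨fun h => hz (h ▸ hp₀), hpB⟩
      have hsub : ∀ z ∈ Γᶜ \ B₀, r z = r y → insert (r y) (insert q (insert p₀ B₀)) ⊆
          closureSet G Γ (insert q (insert p₀ (insert z B₀))) := by
        intro z hz hzy
        refine Set.insert_subset (hzy ▸ hr z hz) fun v hv => subset_closureSet _ ?_
        simp only [Set.mem_insert_iff] at hv ⊢
        tauto
      have e := (heq _ _ (hkcard y hy hyB) hS (hsub y ⟨hy, hyB⟩ rfl)).symm.trans
        (heq _ _ (hkcard y' hy' hyB') hS (hsub y' ⟨hy', hyB'⟩ hyy.symm))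
      have hb : ∀ z ∈ Γ, y' ≠ z := fun z hz h => hy' (h ▸ hz)
      have hy6 : ({y', r y} ∪ insert q (insert p₀ (insert y B₀))) ⊆
          closureSet G Γ (insert q (insert p₀ (insert y B₀))) :=
        Set.union_subset (Set.insert_subset (by rw [e]; exact subset_closureSet _ (by simp))
          (Set.singleton_subset_iff.2 (hr y ⟨hy, hyB⟩))) (subset_closureSet _)
      have h6 := Set.ncard_le_ncard hy6 (Set.toFinite _)
      rw [Set.ncard_union_eq (Set.disjoint_left.2 ?_) (Set.toFinite _) (Set.toFinite _),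
        Set.ncard_pair (hb _ hry.1), hkcard y hy hyB, hLcard _ (hkcard y hy hyB)] at h6
      · omega
      · rintro z (rfl | rfl) hz <;> simp only [Set.mem_insert_iff] at hz
        · rcases hz with h | h | h | h
          · exact hb q hq.1 h
          · exact hb p₀ hp₀ h
          · exact hne h.symm
          · exact hyB' h
        · rcases hz with h | h | h | h
          · exact hrq h
          · exact hrp h
          · exact hy (h ▸ hry.1)
          · exact hrB h
    have h1 := Set.ncard_le_ncard (s := r '' (Γᶜ \ B₀)) (t := Γ \ ({p₀, q} ∪ C A₀ p₀))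
      (by rintro _ ⟨y, hy, rfl⟩; exact hrmem y hy) (Set.toFinite _)
    rw [Set.InjOn.ncard_image hinj, Set.ncard_sdiff hB₀D (Set.toFinite _), hD, hB₀c,
      Set.ncard_sdiff (Set.union_subset (Set.insert_subset hp₀ (Set.singleton_subset_iff.2 hq.1))
        fun z hz => (hCΓ A₀ p₀ hA₀ hA₀D hp₀ hz).1) (Set.toFinite _),
      Set.ncard_union_eq (Set.disjoint_left.2 ?_) (Set.toFinite _) (Set.toFinite _),
      Set.ncard_pair (Ne.symm hq.2), hCcard A₀ p₀ hA₀ hA₀D hp₀, hA₀c, ← hg, mul_one] at h1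
    · omega
    · rintro z (rfl | rfl) hz
      · exact (hCΓ A₀ z hA₀ hA₀D hp₀ hz).2 rfl
      · exact hqC hz

end Cfsg.Agent.Lib.Marggraf
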